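import Mathlib

/-!
# Odd order elements acting on 2-groups with a large fixed or cyclic subgroup
-/

set_option autoImplicit false

namespace CfsgLib.Classification

variable {G : Type*} [Group G]

/-- An element `g` of odd order normalizing a 2-group `Q` and centralizing a subgroup of index at
most two of it centralizes `Q`. -/
theorem commute_of_commute_index_two {g : G} (hg : Odd (orderOf g)) {M Q : Subgroup G}
    (hMQ : M ≤ Q) (hidx : ∀ x ∈ Q, ∀ y ∈ Q, x ∉ M → y ∉ M → x⁻¹ * y ∈ M)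
    (hQ : IsPGroup 2 Q) (hgQ : ∀ x ∈ Q, g * x * g⁻¹ ∈ Q)
    (hM : ∀ x ∈ M, g * x * g⁻¹ = x) : ∀ x ∈ Q, g * x * g⁻¹ = x := by
  intro x hx
  by_cases hxM : x ∈ M
  · exact hM x hxM
  have hgx : g * x * g⁻¹ ∉ M := by
    intro h
    have h1 := hM _ h
    apply hxM
    have h2 : g * x * g⁻¹ = x := by
      calc g * x * g⁻¹ = g⁻¹ * (g * (g * x * g⁻¹) * g⁻¹) * g := by group
        _ = g⁻¹ * (g * x * g⁻¹) * g := by rw [h1]
        _ = x := by group
    exact h2 ▸ h
  set r := x⁻¹ * (g * x * g⁻¹) with hr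
  have hrM : r ∈ M := hidx x hx _ (hgQ x hx) hxM hgx
  have key : ∀ n : ℕ, g ^ n * x * (g ^ n)⁻¹ = x * r ^ n := by
    intro n
    induction n with
    | zero => simp
    | succ n ih =>
      calc g ^ (n + 1) * x * (g ^ (n + 1))⁻¹ = g * (g ^ n * x * (g ^ n)⁻¹) * g⁻¹ := by
            rw [pow_succ']; group
        _ = (g * x * g⁻¹) * (g * r ^ n * g⁻¹) := by rw [ih]; group
        _ = x * r ^ (n + 1) := by
            rw [hM _ (M.pow_mem hrM n), show g * x * g⁻¹ = x * r by rw [hr, mul_inv_cancel_left],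
              pow_succ' r]
            group
  have h1 := key (orderOf g)
  rw [pow_orderOf_eq_one, one_mul, inv_one, mul_one, left_eq_mul] at h1
  obtain ⟨k, hk⟩ := (IsPGroup.iff_orderOf (p := 2)).mp hQ ⟨r, hMQ hrM⟩
  rw [Subgroup.orderOf_mk] at hk
  have hd : orderOf r ∣ orderOf g := orderOf_dvd_of_pow_eq_one h1
  have h2 : orderOf r = 1 := by
    rw [hk] at hd ⊢
    rcases k with _ | k
    · rfl
    · exact absurd (even_iff_two_dvd.mpr ((dvd_pow_self 2 (Nat.succ_ne_zero k)).trans hd))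
        (Nat.not_even_iff_odd.mpr hg)
  rw [orderOf_eq_one_iff] at h2
  calc g * x * g⁻¹ = x * r := by rw [hr, mul_inv_cancel_left]
    _ = x := by rw [h2, mul_one]

/-- An element of odd order normalizing a cyclic 2-group centralizes it. -/
theorem commute_of_cyclic [Finite G] {g : G} (hg : Odd (orderOf g)) :
    ∀ (Q : Subgroup G), IsCyclic Q → IsPGroup 2 Q → (∀ x ∈ Q, g * x * g⁻¹ ∈ Q) →
      ∀ x ∈ Q, g * x * g⁻¹ = x := by
  intro Q
  induction hn : Nat.card Q using Nat.strong_induction_on generalizing Q with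
  | _ n ih =>
    subst hn
    intro hc hQ hgQ
    obtain ⟨⟨a, ha⟩, hgen⟩ := hc.exists_generator
    by_cases hbot : a = 1
    · intro x hx
      obtain ⟨j, hj⟩ := hgen ⟨x, hx⟩
      have : a ^ j = x := congrArg Subtype.val hj
      rw [← this, hbot, one_zpow]
      group
    set M := Subgroup.zpowers (a * a)
    have hmem : ∀ x ∈ Q, ∃ j : ℤ, a ^ j = x := fun x hx => by
      obtain ⟨j, hj⟩ := hgen ⟨x, hx⟩
      exact ⟨j, congrArg Subtype.val hj⟩
    have hMQ : M ≤ Q := Subgroup.zpowers_le.mpr (Q.mul_mem ha ha)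
    have hlt : Nat.card M < Nat.card Q := by
      refine lt_of_le_of_ne (Subgroup.card_le_of_le hMQ) fun e => ?_
      have hMe := Subgroup.eq_of_le_of_card_ge hMQ e.ge
      have : a ∈ M := hMe ▸ ha
      obtain ⟨j, hj⟩ := Subgroup.mem_zpowers_iff.mp this
      have h2 : a ^ (2 * j - 1) = 1 := by
        rw [zpow_sub, zpow_mul, zpow_one, zpow_two, hj, mul_inv_cancel]
      obtain ⟨k, hk⟩ := (IsPGroup.iff_orderOf (p := 2)).mp hQ ⟨a, ha⟩
      rw [Subgroup.orderOf_mk] at hk
      have hd : ((orderOf a : ℕ) : ℤ) ∣ 2 * j - 1 := orderOf_dvd_iff_zpow_eq_one.mpr h2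
      rcases k with _ | k
      · exact hbot (orderOf_eq_one_iff.mp (by simpa using hk))
      · rw [hk, pow_succ] at hd
        push_cast at hd
        have h2dvd : (2 : ℤ) ∣ 2 * j - 1 := (dvd_mul_left _ _).trans hd
        omega
    have hgM : ∀ x ∈ M, g * x * g⁻¹ ∈ M := by
      intro x hx
      obtain ⟨j, rfl⟩ := Subgroup.mem_zpowers_iff.mp hx
      obtain ⟨i, hi⟩ := hmem _ (hgQ a ha)
      refine Subgroup.mem_zpowers_iff.mpr ⟨i * j, ?_⟩
      calc (a * a) ^ (i * j) = (a ^ i * a ^ i) ^ j := by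
            rw [zpow_mul, Commute.mul_zpow (Commute.refl a)]
        _ = g * (a * a) ^ j * g⁻¹ := by
            rw [hi, conj_mul, conj_zpow]
    refine commute_of_commute_index_two hg hMQ ?_ hQ hgQ
      (ih _ hlt M rfl (Subgroup.isCyclic_zpowers _) (hQ.to_le hMQ) hgM)
    intro x hx y hy hxM hyM
    obtain ⟨i, rfl⟩ := hmem x hx
    obtain ⟨j, rfl⟩ := hmem y hy
    have odd_of : ∀ l : ℤ, a ^ l ∉ M → ∃ m, l = 2 * m + 1 := by
      intro l hl
      rcases Int.even_or_odd' l with ⟨m, rfl | rfl⟩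
      · exact absurd (Subgroup.mem_zpowers_iff.mpr ⟨m, by rw [← zpow_two, ← zpow_mul]⟩) hl
      · exact ⟨m, rfl⟩
    obtain ⟨m, rfl⟩ := odd_of i hxM
    obtain ⟨m', rfl⟩ := odd_of j hyM
    refine Subgroup.mem_zpowers_iff.mpr ⟨m' - m, ?_⟩
    rw [← zpow_two, ← zpow_mul, ← zpow_neg, ← zpow_add]
    congr 1
    ring

/-- An element of odd order normalizing a subgroup `Q` of a group with a cyclic subgroup `R` of
index two outside which all elements square to one, and fixing an involution of `Q`, centralizes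
`Q`. -/
theorem commute_of_dihedral [Finite G] {g t : G} (hg : Odd (orderOf g)) {D R Q : Subgroup G}
    (hD : IsPGroup 2 D) (hQD : Q ≤ D) (hRD : R ≤ D) (hR : IsCyclic R)
    (hidx : ∀ x ∈ D, ∀ y ∈ D, x ∉ R → y ∉ R → x⁻¹ * y ∈ R)
    (hinv : ∀ x ∈ D, x ∉ R → x * x = 1)
    (hgQ : ∀ x ∈ Q, g * x * g⁻¹ ∈ Q) (htQ : t ∈ Q) (ht : orderOf t = 2)
    (hgt : g * t * g⁻¹ = t) : ∀ x ∈ Q, g * x * g⁻¹ = x := by
  classical
  have hQp : IsPGroup 2 Q := hD.to_le hQD
  have hRc : ∀ x ∈ R, ∀ y ∈ R, x * y = y * x := fun x hx y hy =>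
    congrArg Subtype.val ((IsCyclic.commGroup (α := R)).mul_comm ⟨x, hx⟩ ⟨y, hy⟩)
  by_cases helem : ∀ x ∈ Q, x * x = 1
  · -- `Q` is elementary abelian; `Q ∩ R` then has order at most two
    have huniq : ∀ x ∈ Q, x ∈ R → ∀ y ∈ Q, y ∈ R → x ≠ 1 → y ≠ 1 → x = y := by
      intro x hxQ hxR y hyQ hyR hx hy
      by_contra hne
      cases nonempty_fintype R
      have hle := IsCyclic.card_pow_eq_one_le (α := R) (n := 2) (by norm_num)
      have hsub : ({1, ⟨x, hxR⟩, ⟨y, hyR⟩} : Finset R) ⊆ Finset.univ.filter (fun a => a ^ 2 = 1) := by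
        intro a ha
        simp only [Finset.mem_insert, Finset.mem_singleton] at ha
        rcases ha with rfl | rfl | rfl <;>
          simp [Subtype.ext_iff, sq, helem x hxQ, helem y hyQ]
      have h3 : ({1, ⟨x, hxR⟩, ⟨y, hyR⟩} : Finset R).card = 3 := by
        rw [Finset.card_insert_of_notMem (by simp [Subtype.ext_iff, Ne.symm hx, Ne.symm hy]),
          Finset.card_insert_of_notMem (by simp [hne]), Finset.card_singleton]
      have := (Finset.card_le_card hsub).trans hle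
      omega
    have hcomm : ∀ x ∈ Q, ∀ y ∈ Q, x * y = y * x := by
      intro x hx y hy
      have h := inv_eq_of_mul_eq_one_left (helem _ (Q.mul_mem hx hy))
      rw [mul_inv_rev, inv_eq_of_mul_eq_one_left (helem x hx), inv_eq_of_mul_eq_one_left (helem y hy)] at h
      exact h.symm
    have ht2 : t * t = 1 := helem t htQ
    have hti : t⁻¹ = t := inv_eq_of_mul_eq_one_left ht2
    refine commute_of_commute_index_two (M := Subgroup.zpowers t) hg
      (Subgroup.zpowers_le.mpr htQ) ?_ hQp hgQ ?_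
    · intro x hx y hy hxt hyt
      have ht1 : t ≠ 1 := fun h => by simp [h] at ht
      have hxi : x⁻¹ = x := inv_eq_of_mul_eq_one_left (helem x hx)
      have hx1 : x ≠ 1 := fun h => hxt (h ▸ Subgroup.one_mem _)
      have hy1 : y ≠ 1 := fun h => hyt (h ▸ Subgroup.one_mem _)
      have hxnt : x ≠ t := fun h => hxt (h ▸ Subgroup.mem_zpowers t)
      have hynt : y ≠ t := fun h => hyt (h ▸ Subgroup.mem_zpowers t)
      have hin : ∀ {u v : G}, u ∈ Q → v ∈ Q → u ∉ R → v ∉ R → u⁻¹ * v ∈ R := fun hu hv =>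
        hidx _ (hQD hu) _ (hQD hv)
      rw [Subgroup.mem_zpowers_iff]
      by_cases hxy : x⁻¹ * y = 1
      · exact ⟨0, by simp [hxy]⟩
      refine ⟨1, ?_⟩
      rw [zpow_one]
      by_cases htR : t ∈ R
      · have hxR : x ∉ R := fun h => hxnt (huniq x hx h t htQ htR hx1 ht1)
        have hyR : y ∉ R := fun h => hynt (huniq y hy h t htQ htR hy1 ht1)
        exact (huniq _ (Q.mul_mem (Q.inv_mem hx) hy) (hin hx hy hxR hyR) t htQ htR hxy ht1).symm
      · -- the only nontrivial element `z` of `Q ∩ R`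
        have hne : ∀ u, u ∈ Q → u ≠ t → u⁻¹ * t ≠ 1 := fun u _ hu h => hu (inv_mul_eq_one.mp h)
        by_cases hxR : x ∈ R
        · have hyR : y ∉ R := fun h => hxy (by rw [huniq x hx hxR y hy h hx1 hy1]; simp)
          have := huniq x hx hxR _ (Q.mul_mem (Q.inv_mem hy) htQ) (hin hy htQ hyR htR) hx1 (hne y hy hynt)
          conv_rhs => rw [this, mul_inv_rev, inv_inv, hti]
          rw [mul_assoc, helem y hy, mul_one]
        · by_cases hyR : y ∈ R
          · have := huniq y hy hyR _ (Q.mul_mem (Q.inv_mem hx) htQ) (hin hx htQ hxR htR) hy1 (hne x hx hxnt)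
            conv_rhs => rw [this, ← mul_assoc, hxi, helem x hx, one_mul]
          · exfalso
            have hz := huniq _ (Q.mul_mem (Q.inv_mem hx) hy) (hin hx hy hxR hyR) _
              (Q.mul_mem (Q.inv_mem hx) htQ) (hin hx htQ hxR htR) hxy (hne x hx hxnt)
            exact hynt (mul_left_cancel hz)
    · intro u hu
      obtain ⟨j, rfl⟩ := Subgroup.mem_zpowers_iff.mp hu
      rw [← conj_zpow, hgt]
  · push Not at helem
    obtain ⟨x₀, hx₀, hx₀2⟩ := helem
    set N := Q ⊓ R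
    have hout : ∀ x ∈ Q, x * x ≠ 1 → x ∈ R := fun x hx h => by
      by_contra hR'
      exact h (hinv x (hQD hx) hR')
    have hNc : IsCyclic N :=
      isCyclic_of_injective (Subgroup.inclusion (inf_le_right : N ≤ R)) (Subgroup.inclusion_injective _)
    obtain ⟨⟨a, ha⟩, hgen⟩ := hNc.exists_generator
    have ha2 : a * a ≠ 1 := by
      intro h
      obtain ⟨j, hj⟩ := hgen ⟨x₀, hx₀, hout x₀ hx₀ hx₀2⟩
      have : a ^ j = x₀ := congrArg Subtype.val hj
      apply hx₀2
      rw [← this, ← Commute.mul_zpow (Commute.refl a), h, one_zpow]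
    have hNeq : ∀ x ∈ N, ∃ j : ℤ, a ^ j = x := fun x hx => by
      obtain ⟨j, hj⟩ := hgen ⟨x, hx⟩
      exact ⟨j, congrArg Subtype.val hj⟩
    have hga : g * a * g⁻¹ ∈ N := by
      refine ⟨hgQ a ha.1, hout _ (hgQ a ha.1) fun h => ha2 ?_⟩
      rwa [conj_mul, conj_eq_one_iff] at h
    have hgN : ∀ x ∈ N, g * x * g⁻¹ ∈ N := by
      intro x hx
      obtain ⟨j, rfl⟩ := hNeq x hx
      rw [← conj_zpow]
      exact N.zpow_mem hga j
    refine commute_of_commute_index_two hg inf_le_left ?_ hQp hgQ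
      (commute_of_cyclic hg N hNc (hQp.to_le inf_le_left) hgN)
    intro x hx y hy hxN hyN
    exact ⟨Q.mul_mem (Q.inv_mem hx) hy,
      hidx x (hQD hx) y (hQD hy) (fun h => hxN ⟨hx, h⟩) (fun h => hyN ⟨hy, h⟩)⟩

end CfsgLib.Classification
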