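import Cfsg.Agent.Small.SylowArgs
import Cfsg.Agent.Small.SylowPrime
import Cfsg.Agent.Small.Counting

/-!
# Simple groups of order 60
-/

set_option autoImplicit false

namespace CfsgLib.Classification

open CfsgLib.Small

variable {G : Type*} [Group G] [Finite G]

/-- A simple group of order 60 is nonabelian. -/
theorem not_comm_of_card_sixty [IsSimpleGroup G] (h : Nat.card G = 60) : ¬ IsMulCommutative G := by
  intro hc
  have := card_prime_of_simple_comm hc
  rw [h] at this
  norm_num at this

/-- A simple group of order 60 has a subgroup of index five. -/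
theorem exists_index_five [IsSimpleGroup G] (h : Nat.card G = 60) :
    ∃ H : Subgroup G, H.index = 5 := by
  classical
  have hG := not_comm_of_card_sixty h
  have := Fact.mk Nat.prime_two
  have h5 : Fact (Nat.Prime 5) := ⟨by norm_num⟩
  have hsylow : ∀ P : Sylow 2 G, Nat.card (P : Subgroup G) = 4 := fun P => by
    rw [card_sylow_eq (k := 2) (m := 15) (by rw [h]; norm_num) (by norm_num) P]; norm_num
  have hn2 := card_sylow_mem hG (p := 2) (k := 2) (m := 15) (by rw [h]; norm_num) (by norm_num) (by norm_num)
  have hn2' : Nat.card (Sylow 2 G) = 3 ∨ Nat.card (Sylow 2 G) = 5 ∨ Nat.card (Sylow 2 G) = 15 := by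
    revert hn2
    generalize Nat.card (Sylow 2 G) = d
    intro hd
    rw [show (Nat.divisors 15).filter (fun d => d % 2 = 1 ∧ d ≠ 1) = ({3, 5, 15} : Finset ℕ) by decide] at hd
    simpa using hd
  obtain ⟨P₀⟩ : Nonempty (Sylow 2 G) := inferInstance
  rcases hn2' with h2 | h2 | h2
  · have := two_mul_card_dvd_factorial_sylow hG (p := 2) (by rw [h]; norm_num)
    rw [h2, h] at this
    norm_num [Nat.factorial] at this
  · exact ⟨_, (P₀.card_eq_index_normalizer).symm.trans h2⟩
  -- two Sylow 2-subgroups meet nontrivially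
  obtain ⟨P, Q, hPQ, x, hxP, hxQ, hx1⟩ : ∃ P Q : Sylow 2 G, P ≠ Q ∧
      ∃ x : G, x ∈ (P : Subgroup G) ∧ x ∈ (Q : Subgroup G) ∧ x ≠ 1 := by
    by_contra hcon
    push Not at hcon
    have hn5 := card_sylow_mem hG (p := 5) (k := 1) (m := 12) (by rw [h]; norm_num) (by norm_num) (by norm_num)
    rw [show (Nat.divisors 12).filter (fun d => d % 5 = 1 ∧ d ≠ 1) = ({6} : Finset ℕ) by decide,
      Finset.mem_singleton] at hn5
    have e5 := card_orderOf_eq_prime (G := G) (p := 5) (fun P => by
      rw [card_sylow_eq (k := 1) (m := 12) (by rw [h]; norm_num) (by norm_num) P]; norm_num)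
    rw [hn5] at e5
    let T := Σ P : Sylow 2 G, {x : (P : Subgroup G) // x ≠ 1}
    let f : T ⊕ {g : G // orderOf g = 5} → G := Sum.elim (fun t => ((t.2.1 : (t.1 : Subgroup G)) : G)) Subtype.val
    have hne : ∀ (t : T) (g : {g : G // orderOf g = 5}), ((t.2.1 : (t.1 : Subgroup G)) : G) ≠ g.1 := by
      intro t g he
      have hd : orderOf ((t.2.1 : (t.1 : Subgroup G)) : G) ∣ 4 := by
        rw [Subgroup.orderOf_coe, ← hsylow t.1]; exact orderOf_dvd_natCard _
      rw [he, g.2] at hd
      norm_num at hd
    have hf : Function.Injective f := by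
      rintro (⟨P, ⟨x, hx⟩, hx1⟩ | g) (⟨Q, ⟨y, hy⟩, hy1⟩ | g') he
      · replace he : x = y := he
        subst he
        obtain rfl : P = Q := by
          by_contra hne
          exact hx1 (Subtype.ext (hcon P Q hne x hx hy))
        rfl
      · exact absurd he (hne _ _)
      · exact absurd he.symm (hne _ _)
      · exact congrArg Sum.inr (Subtype.ext he)
    have hle := Nat.card_le_card_of_injective f hf
    have hT : Nat.card T = 15 * 3 := by
      cases nonempty_fintype (Sylow 2 G)
      rw [Nat.card_sigma]
      have : ∀ P : Sylow 2 G, Nat.card {x : (P : Subgroup G) // x ≠ 1} = 3 := fun P => by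
        cases nonempty_fintype (P : Subgroup G)
        rw [Nat.card_eq_fintype_card, Fintype.card_subtype_compl, Fintype.card_subtype_eq,
          ← Nat.card_eq_fintype_card, hsylow P]
      rw [Finset.sum_congr rfl (fun P _ => this P), Finset.sum_const, Finset.card_univ,
        ← Nat.card_eq_fintype_card, h2]
      rfl
    rw [Nat.card_sum, hT, e5, h] at hle
    omega
  -- the centralizer of the common element
  set C := Subgroup.centralizer ({x} : Set G) with hC
  have hle : ∀ R : Sylow 2 G, x ∈ (R : Subgroup G) → (R : Subgroup G) ≤ C := by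
    intro R hR y hy
    have hc := IsPGroup.commutative_of_card_eq_prime_sq (p := 2) (G := (R : Subgroup G)) (by rw [hsylow R]; norm_num)
    exact Subgroup.mem_centralizer_singleton_iff.mpr (congrArg Subtype.val (hc ⟨y, hy⟩ ⟨x, hR⟩))
  have hd : 4 ∣ Nat.card C := hsylow P ▸ Subgroup.card_dvd_of_le (hle P hxP)
  have hne4 : Nat.card C ≠ 4 := by
    intro e
    have e1 := Subgroup.eq_of_le_of_card_ge (hle P hxP) (by rw [e, hsylow])
    have e2 := Subgroup.eq_of_le_of_card_ge (hle Q hxQ) (by rw [e, hsylow])
    exact hPQ (Sylow.ext (e1.trans e2.symm))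
  have htop : C ≠ ⊤ := by
    intro ht
    have : x ∈ Subgroup.center G := (centralizer_singleton_eq_top_iff (x := x)).mp ht
    rw [center_eq_bot_of_simple hG, Subgroup.mem_bot] at this
    exact hx1 this
  have hcard60 : Nat.card C ∈ Nat.divisors 60 :=
    Nat.mem_divisors.mpr ⟨h ▸ Subgroup.card_subgroup_dvd_card C, by norm_num⟩
  have h3 : 2 * Nat.card G ∣ C.index.factorial := two_mul_card_dvd_factorial_index hG C htop
  have hi := Subgroup.card_mul_index C
  rw [h] at hi h3
  have h60 : Nat.card C ≠ 60 := fun e => htop (Subgroup.eq_top_of_card_eq C (e.trans h.symm))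
  have hmem : Nat.card C = 12 ∨ Nat.card C = 20 := by
    revert hd hne4 h60 hcard60
    generalize Nat.card C = c
    intro hd hne4 hc h60
    have hle60 : c ≤ 60 := Nat.le_of_dvd (by norm_num) (Nat.dvd_of_mem_divisors hc)
    have hdvd : c ∣ 60 := Nat.dvd_of_mem_divisors hc
    interval_cases c <;> first | omega | norm_num at hdvd
  rcases hmem with e | e
  · exact ⟨C, by rw [e] at hi; omega⟩
  · rw [e] at hi
    rw [show C.index = 3 by omega] at h3
    norm_num [Nat.factorial] at h3

/-- A simple group of order 60 is isomorphic to `A₅`. -/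
theorem nonempty_equiv_alternating_five [IsSimpleGroup G] (h : Nat.card G = 60) :
    Nonempty (G ≃* alternatingGroup (Fin 5)) := by
  obtain ⟨H, hH⟩ := exists_index_five (G := G) h
  obtain ⟨f, hf⟩ := exists_hom_alternatingGroup (not_comm_of_card_sixty h) H (fun e => by
    rw [e, Subgroup.index_top] at hH; norm_num at hH)
  let c : alternatingGroup (Fin H.index) ≃* alternatingGroup (Fin 5) :=
    Equiv.altCongrHom (finCongr hH)
  let g := c.toMonoidHom.comp f
  have hg : Function.Injective g := c.injective.comp hf
  have hcard : Nat.card (alternatingGroup (Fin 5)) ≤ Nat.card G := by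
    have e := two_mul_nat_card_alternatingGroup (α := Fin 5)
    rw [Nat.card_perm, Nat.card_fin, show Nat.factorial 5 = 120 from rfl] at e
    omega
  exact ⟨MulEquiv.ofBijective g (hg.bijective_of_nat_card_le hcard)⟩

end CfsgLib.Classification
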