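import Cfsg.Agent.Classification.PSLTwoGeneral.Main
import Cfsg.Agent.TwoGroups.DihedralLocal
import Cfsg.Agent.TwoGroups.IsolatedZStar
import Cfsg.Agent.S0514

/-!
# Simple groups with dihedral Sylow 2-subgroups: the Brauer–Suzuki–Wall case
-/

set_option autoImplicit false
set_option linter.style.haveILetI false

namespace CfsgLib.Classification.DihedralBSW

open Subgroup
open DihedralGroup (r sr)

/-- In a dihedral group of order `2 n`, `n ≥ 2` a power of 2, the elements outside a cyclic subgroup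
of index 2 are involutions inverting it. -/
theorem inverts_of_cyclic_index_two {n : ℕ} [NeZero n] (hn : n = 2 ∨ 4 ≤ n)
    (R : Subgroup (DihedralGroup n)) [IsCyclic R] (hR : R.index = 2) {x : DihedralGroup n}
    (hx : x ∉ R) : x * x = 1 ∧ ∀ y ∈ R, x * y * x⁻¹ = y⁻¹ := by
  rcases hn with rfl | hn
  · have hsq : ∀ d : DihedralGroup 2, d * d = 1 := by decide
    have hcomm : ∀ a b : DihedralGroup 2, a * b = b * a := by decide
    exact ⟨hsq x, fun y _ => by
      rw [hcomm x y, mul_inv_cancel_right, inv_eq_of_mul_eq_one_right (hsq y)]⟩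
  have hcard : Nat.card R = n := by
    have h := R.card_mul_index
    rw [hR, DihedralGroup.nat_card] at h
    omega
  obtain ⟨g, hg⟩ := IsCyclic.exists_generator (α := R)
  have hgo : orderOf (g : DihedralGroup n) = n := by
    rw [Subgroup.orderOf_coe, orderOf_eq_card_of_forall_mem_zpowers hg, hcard]
  have hrot : R = zpowers (r 1 : DihedralGroup n) := by
    refine eq_of_le_of_card_ge (fun y hy => ?_) ?_
    · obtain ⟨k, hk⟩ := mem_zpowers_iff.1 (hg ⟨y, hy⟩)
      have hk' : (g : DihedralGroup n) ^ k = y := congrArg Subtype.val hk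
      rw [← hk']
      refine zpow_mem ?_ k
      cases hgv : (g : DihedralGroup n) with
      | r i => exact (mem_zpowers_iff.2 ⟨(i.cast : ℤ), by rw [DihedralGroup.r_one_zpow, ZMod.intCast_zmod_cast]⟩)
      | sr i => rw [hgv, DihedralGroup.orderOf_sr] at hgo; omega
    · rw [hcard, Nat.card_zpowers, DihedralGroup.orderOf_r_one]
  subst hrot
  cases x with
  | r i => exact absurd (mem_zpowers_iff.2 ⟨(i.cast : ℤ), by rw [DihedralGroup.r_one_zpow, ZMod.intCast_zmod_cast]⟩) hx
  | sr i =>
    refine ⟨DihedralGroup.sr_mul_self i, fun y hy => ?_⟩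
    obtain ⟨k, rfl⟩ := mem_zpowers_iff.1 hy
    rw [DihedralGroup.r_one_zpow, DihedralGroup.inv_sr, DihedralGroup.sr_mul_r,
      DihedralGroup.sr_mul_sr, DihedralGroup.inv_r]
    congr 1
    ring

variable {G : Type*} [Group G] [Finite G]

/-- A simple group has no subgroup of index 2 and no isolated involution, if it is not
commutative. -/
theorem no_index_two_no_isolated [IsSimpleGroup G] (hG : ¬ IsMulCommutative G) :
    (∀ H : Subgroup G, H.index ≠ 2) ∧ ∀ z : G, ¬ Cfsg.IsIsolatedInvolution z := by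
  refine ⟨fun H hH => ?_, fun z hz => ?_⟩
  · rcases (Subgroup.normal_of_index_eq_two hH).eq_bot_or_eq_top with rfl | rfl
    · rw [Subgroup.index_bot] at hH
      haveI : Fact (Nat.Prime 2) := ⟨Nat.prime_two⟩
      haveI := isCyclic_of_prime_card hH
      exact hG IsCyclic.isMulCommutative
    · rw [Subgroup.index_top] at hH; omega
  · have hbot : Cfsg.oddCore G = ⊥ := by
      rcases (inferInstance : (Cfsg.oddCore G).Normal).eq_bot_or_eq_top with h | h
      · exact h
      · have h2 : 2 ∣ Nat.card G := hz.1 ▸ orderOf_dvd_natCard z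
        have := CfsgLib.TwoGroups.odd_card_oddCore (G := G)
        rw [h, card_top] at this
        exact absurd h2 this.not_two_dvd_nat
    have hzc : z ∈ center G := Subgroup.mem_center_iff.2 fun g => by
      have h := CfsgLib.TwoGroups.comm_mem_oddCore hz g
      rw [hbot, mem_bot, mul_inv_eq_one, mul_inv_eq_iff_eq_mul] at h
      exact h.symm
    rcases (inferInstance : (center G).Normal).eq_bot_or_eq_top with h | h
    · rw [h, mem_bot] at hzc
      rw [hzc] at hz
      exact absurd hz.1 (by simp)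
    · exact hG ⟨⟨fun a b => (Subgroup.mem_center_iff.1 (h ▸ mem_top a) b).symm⟩⟩

/-- A simple group with dihedral Sylow 2-subgroups has one class of involutions. -/
theorem isConj_involutions [IsSimpleGroup G] (hG : ¬ IsMulCommutative G) (S : Sylow 2 G) {n : ℕ}
    [NeZero n] (hn : 2 ≤ n) (eS : (S : Subgroup G) ≃* DihedralGroup n) (a b : G)
    (ha : orderOf a = 2) (hb : orderOf b = 2) : IsConj a b := by
  haveI : Fact (Nat.Prime 2) := ⟨Nat.prime_two⟩
  obtain ⟨hidx, hiso⟩ := no_index_two_no_isolated hG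
  rcases (CfsgLib.DihedralLocal.noIndexTwo_noIsolated_iff eS hn).1 ⟨hidx, hiso⟩ with h | h
  · exact h a b ha hb
  by_cases hn2 : n = 2
  · have hS4 := CfsgLib.DihedralLocal.isKleinFour_of_two eS hn2
    obtain ⟨g, hgN, hgC, hg⟩ := CfsgLib.TwoGroups.exists_odd_mem_notMem
      (H := centralizer ((S : Subgroup G) : Set G)) (N := normalizer ((S : Subgroup G) : Set G))
      (by rw [h _ le_rfl hS4]; split <;> norm_num)
    obtain ⟨x, hx, hax⟩ := CfsgLib.TwoGroups.exists_isConj_sylow S (k := 1) (by simpa using ha)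
    obtain ⟨y, hy, hby⟩ := CfsgLib.TwoGroups.exists_isConj_sylow S (k := 1) (by simpa using hb)
    have hne : ∀ (w : (S : Subgroup G)), orderOf w = 2 ^ 1 → (w : G) ≠ 1 := fun w hw h => by
      rw [OneMemClass.coe_eq_one] at h
      rw [h, orderOf_one] at hw
      omega
    exact hax.trans ((CfsgLib.DihedralLocal.isConj_of_moved hS4 hgN hg hgC x.2 y.2
      (hne x hx) (hne y hy)).trans hby.symm)
  · rcases CfsgLib.DihedralClasses.classes_of_dihedral eS
      (CfsgLib.DihedralLocal.four_dvd_of_ne_two eS hn hn2) with h1 | h1 | h1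
    · haveI : Subsingleton {C : ConjClasses G // ∃ t, orderOf t = 2 ∧ ConjClasses.mk t = C} :=
        (Nat.card_eq_one_iff_unique.1 h1.1).1
      exact ConjClasses.mk_eq_mk_iff_isConj.1 (congrArg Subtype.val
        (Subsingleton.elim (⟨_, a, ha, rfl⟩ :
          {C : ConjClasses G // ∃ t, orderOf t = 2 ∧ ConjClasses.mk t = C}) ⟨_, b, hb, rfl⟩))
    · obtain ⟨N, -, hN⟩ := h1.2.1
      exact absurd hN (hidx N)
    · obtain ⟨P, N, hN, hc⟩ := h1.2
      have hdvd : 4 ∣ Nat.card P := by
        rw [Nat.card_congr (P.equiv S).toEquiv, Nat.card_congr eS.toEquiv, DihedralGroup.nat_card]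
        exact (CfsgLib.DihedralLocal.four_dvd_of_ne_two eS hn hn2).mul_left 2
      rcases hN.eq_bot_or_eq_top with rfl | rfl
      · have h2 : (P : Subgroup G) = ⊤ := Subgroup.isComplement'_bot_right.1 hc.symm
        exfalso
        have hp : IsPGroup 2 G := P.isPGroup'.of_equiv
          ((MulEquiv.subgroupCongr h2).trans Subgroup.topEquiv)
        haveI : Nontrivial G := IsSimpleGroup.toNontrivial
        haveI := hp.center_nontrivial
        rcases (inferInstance : (center G).Normal).eq_bot_or_eq_top with h | h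
        · exact absurd h ((center G).nontrivial_iff_ne_bot.1 inferInstance)
        · exact hG ⟨⟨fun a b => (Subgroup.mem_center_iff.1 (h ▸ mem_top a) b).symm⟩⟩
      · have h2 : (P : Subgroup G) = ⊥ := Subgroup.isComplement'_top_right.1 hc.symm
        rw [h2, card_bot] at hdvd
        omega

/-- A nonabelian simple group does not have order 12. -/
theorem card_ne_twelve [IsSimpleGroup G] (S : Sylow 2 G) (hG : ¬ IsMulCommutative G) :
    Nat.card G ≠ 12 := by
  haveI : Fact (Nat.Prime 2) := ⟨Nat.prime_two⟩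
  intro h12
  have hS : Nat.card (S : Subgroup G) = 4 := by
    rw [S.card_eq_multiplicity, h12, show 12 = 2 ^ 2 * 3 by norm_num,
      Nat.factorization_mul (by norm_num) (by norm_num), Finsupp.add_apply,
      Nat.prime_two.factorization_pow, Finsupp.single_eq_same,
      Nat.factorization_eq_zero_of_not_dvd (by norm_num : ¬ 2 ∣ 3), add_zero]
    norm_num
  have hidx : (S : Subgroup G).index = 3 := by
    have h := (S : Subgroup G).card_mul_index
    rw [hS, h12] at h
    omega
  have hne : (S : Subgroup G) ≠ ⊤ := fun h => by rw [h, index_top] at hidx; omega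
  have hker : (MulAction.toPermHom G (G ⧸ (S : Subgroup G))).ker = ⊥ := by
    rw [← Subgroup.normalCore_eq_ker]
    rcases (Subgroup.normalCore_normal (S : Subgroup G)).eq_bot_or_eq_top with h | h
    · exact h
    · exact absurd (top_le_iff.1 (h.symm.le.trans (Subgroup.normalCore_le _))) hne
  have hle := Nat.card_le_card_of_injective _ ((MonoidHom.ker_eq_bot_iff _).1 hker)
  rw [Nat.card_perm, ← Subgroup.index_eq_card, hidx, h12] at hle
  simp [Nat.factorial] at hle

/-- The Brauer–Suzuki–Wall case of the dihedral theorem. -/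
theorem exists_equiv [IsSimpleGroup G] (S : Sylow 2 G) (n : ℕ)
    (hn : 2 ≤ n) (hS : Nonempty ((S : Subgroup G) ≃* DihedralGroup n)) (t : G) (ht : orderOf t = 2)
    (htS : t ∈ (S : Subgroup G))
    (htZ : ∀ s ∈ (S : Subgroup G), s * t = t * s) (O : Subgroup G)
    (hO : O = (Cfsg.oddCore (Subgroup.centralizer ({t} : Set G))).map
      (Subgroup.centralizer ({t} : Set G)).subtype)
    (ha : O ≠ ⊥ → IsCyclic ((S : Subgroup G) ⊓ Subgroup.centralizer (O : Set G) : Subgroup G) ∧
      ((S : Subgroup G) ⊓ Subgroup.centralizer (O : Set G)).relIndex (S : Subgroup G) = 2)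
    (hb : ∀ s ∈ (S : Subgroup G), s ∉ Subgroup.centralizer (O : Set G) →
      ∀ y ∈ O, s * y * s⁻¹ = y⁻¹)
    (hc : ∀ Y : Subgroup G, Y ≤ O → Y ≠ ⊥ →
      Subgroup.normalizer (Y : Set G) ≤ Subgroup.centralizer ({t} : Set G)) :
    ∃ (F : Type) (_ : Field F) (_ : Fintype F), Odd (Fintype.card F) ∧
      Nonempty (G ≃* Matrix.ProjectiveSpecialLinearGroup (Fin 2) F) := by
  classical
  haveI : Fact (Nat.Prime 2) := ⟨Nat.prime_two⟩
  obtain ⟨eS⟩ := hS
  haveI : NeZero n := ⟨by omega⟩
  have hScard : Nat.card (S : Subgroup G) = 2 * n := by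
    rw [Nat.card_congr eS.toEquiv, DihedralGroup.nat_card]
  have hn' : n = 2 ∨ 4 ≤ n := by
    by_cases h : n = 2
    · exact Or.inl h
    · exact Or.inr (Nat.le_of_dvd (by omega) (CfsgLib.DihedralLocal.four_dvd_of_ne_two eS hn h))
  have hG : ¬ IsMulCommutative G := by
    intro h
    letI : CommGroup G := { ‹Group G› with mul_comm := mul_comm' }
    have hp : (Nat.card G).Prime := IsSimpleGroup.prime_card
    have h4 : 2 * n ∣ Nat.card G := hScard ▸ card_subgroup_dvd_card _
    rcases hp.eq_one_or_self_of_dvd _ h4 with h | h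
    · omega
    · exact absurd (h ▸ hp) (Nat.not_prime_mul (by norm_num) (by omega))
  have htt : t * t = 1 := by rw [← sq, ← ht, pow_orderOf_eq_one]
  set C := centralizer ({t} : Set G) with hC
  have hSC : (S : Subgroup G) ≤ C := fun s hs => mem_centralizer_singleton_iff.2 (htZ s hs)
  -- the odd core
  have hOC : O ≤ C := hO ▸ map_subtype_le _
  have hOodd : Odd (Nat.card O) := by
    rw [hO, card_map_of_injective (subtype_injective C)]
    exact CfsgLib.TwoGroups.odd_card_oddCore
  have hOn : ∀ c ∈ C, ∀ y ∈ O, c * y * c⁻¹ ∈ O := by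
    intro c hc y hy
    rw [hO] at hy ⊢
    obtain ⟨y', hy', rfl⟩ := hy
    exact ⟨⟨c, hc⟩ * y' * ⟨c, hc⟩⁻¹,
      (inferInstance : (Cfsg.oddCore C).Normal).conj_mem y' hy' ⟨c, hc⟩, rfl⟩
  have hOS : ∀ x, x ∈ O → x ∈ (S : Subgroup G) → x = 1 := by
    intro x hxO hxS
    obtain ⟨k, hk⟩ := IsPGroup.iff_orderOf.1 S.isPGroup' ⟨x, hxS⟩
    rw [orderOf_mk] at hk
    refine orderOf_eq_one_iff.1 (Nat.eq_one_of_dvd_coprimes ?_ (dvd_refl (orderOf x)) hk.dvd)
    refine Nat.Coprime.pow_right k (Nat.coprime_two_right.2 (Odd.of_dvd_nat hOodd ?_))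
    have := orderOf_dvd_natCard (⟨x, hxO⟩ : O)
    rwa [orderOf_mk] at this
  have hdec : ∀ c ∈ C, ∃ o ∈ O, ∃ s ∈ (S : Subgroup G), c = o * s := by
    obtain ⟨N, hN, hNodd, k, hk⟩ := Cfsg.Agent.S0514.result S n hn ⟨eS⟩ t ht
    haveI := hN
    have hNO : N ≤ Cfsg.oddCore C :=
      CfsgLib.PLocal.le_pPrimeCore (Nat.coprime_two_right.2 hNodd)
    set S' := (S : Subgroup G).subgroupOf C with hS'
    have hScard' : Nat.card S' = 2 * n := by
      rw [Nat.card_congr (subgroupOfEquivOfLe hSC).toEquiv, hScard]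
    have hcop : (Nat.card N).Coprime (Nat.card S') := by
      obtain ⟨j, hj⟩ := (S.isPGroup'.comap_subtype (K := C)).exists_card_eq
      rw [hS', show Nat.card ((S : Subgroup G).subgroupOf C) = 2 ^ j from hj]
      exact (Nat.coprime_two_right.2 hNodd).pow_right j
    have hidx : ¬ 2 ∣ S'.index := fun h => S.not_dvd_index
      (h.trans (relIndex_dvd_index_of_le hSC))
    have h1 := N.card_mul_index
    have h2 := S'.card_mul_index
    rw [hk] at h1
    have hpow : 2 ^ k = Nat.card S' := by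
      refine Nat.dvd_antisymm ?_ ?_
      · refine ((Nat.prime_two.coprime_iff_not_dvd.2 hidx).pow_left k).dvd_of_dvd_mul_right ?_
        exact ⟨Nat.card N, by rw [h2, ← h1, mul_comm]⟩
      · exact hcop.symm.dvd_of_dvd_mul_left ⟨S'.index, by rw [h1, h2]⟩
    have hcompl := isComplement'_of_coprime (by rw [← hpow, h1]) hcop
    intro c hc
    obtain ⟨⟨⟨o, ho⟩, ⟨s, hs⟩⟩, hos⟩ := hcompl.2 ⟨c, hc⟩
    exact ⟨o, hO ▸ ⟨o, hNO ho, rfl⟩, s, hs, (congrArg Subtype.val hos).symm⟩
  -- the cyclic subgroup of index two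
  obtain ⟨R, hRS, hRcyc, hRidx, htR, hRO, hRb⟩ : ∃ R : Subgroup G, R ≤ (S : Subgroup G) ∧
      IsCyclic R ∧ R.relIndex (S : Subgroup G) = 2 ∧ t ∈ R ∧ R ≤ centralizer (O : Set G) ∧
      ∀ s ∈ (S : Subgroup G), s ∉ R → ∀ y ∈ O, s * y * s⁻¹ = y⁻¹ := by
    by_cases hObot : O = ⊥
    · obtain ⟨T, hTc, hTi, htT⟩ : ∃ T : Subgroup (DihedralGroup n),
          IsCyclic T ∧ T.index = 2 ∧ eS ⟨t, htS⟩ ∈ T := by
        have htc : ∀ d : DihedralGroup n, d * eS ⟨t, htS⟩ = eS ⟨t, htS⟩ * d := fun d => by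
          rw [← eS.apply_symm_apply d, ← map_mul, ← map_mul]
          exact congrArg eS (Subtype.ext (htZ _ (eS.symm d).2))
        have ho : orderOf (eS ⟨t, htS⟩) = 2 := by
          rw [MulEquiv.orderOf_eq, orderOf_mk, ht]
        rcases hn' with rfl | h4
        · refine ⟨zpowers (eS ⟨t, htS⟩), inferInstance, ?_, mem_zpowers _⟩
          have h := (zpowers (eS ⟨t, htS⟩)).card_mul_index
          rw [Nat.card_zpowers, ho, DihedralGroup.nat_card] at h
          omega
        · refine ⟨zpowers (r 1), inferInstance, ?_, ?_⟩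
          · have h := (zpowers (r 1 : DihedralGroup n)).card_mul_index
            rw [Nat.card_zpowers, DihedralGroup.orderOf_r_one, DihedralGroup.nat_card] at h
            exact Nat.eq_of_mul_eq_mul_left (by omega) (h.trans (mul_comm _ _))
          · cases hd : eS ⟨t, htS⟩ with
            | r i => exact (mem_zpowers_iff.2 ⟨(i.cast : ℤ), by rw [DihedralGroup.r_one_zpow, ZMod.intCast_zmod_cast]⟩)
            | sr i =>
              have h := htc (r 1)
              rw [hd, DihedralGroup.r_mul_sr, DihedralGroup.sr_mul_r] at h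
              have h2 : ((2 : ℕ) : ZMod n) = 0 := by
                have := DihedralGroup.sr.inj h
                push_cast
                linear_combination -this
              have := Nat.le_of_dvd two_pos ((ZMod.natCast_eq_zero_iff 2 n).1 h2)
              omega
      refine ⟨(T.map eS.symm.toMonoidHom).map (S : Subgroup G).subtype, map_subtype_le _, ?_, ?_,
        ?_, ?_, ?_⟩
      · exact ((T.equivMapOfInjective eS.symm.toMonoidHom eS.symm.injective).trans
          ((T.map eS.symm.toMonoidHom).equivMapOfInjective _ (subtype_injective _))).isCyclic.1 hTc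
      · rw [relIndex, subgroupOf, comap_map_eq_self_of_injective (subtype_injective _)]
        rw [show eS.symm.toMonoidHom = (eS.symm : DihedralGroup n →* (S : Subgroup G)) from rfl,
          index_map_equiv, hTi]
      · exact ⟨⟨t, htS⟩, ⟨_, htT, eS.symm_apply_apply _⟩, rfl⟩
      · rw [hObot]
        exact fun x _ y hy => by rw [mem_bot.1 hy, mul_one, one_mul]
      · intro s _ _ y hy
        rw [hObot, mem_bot] at hy
        simp [hy]
    · obtain ⟨hcyc, hidx⟩ := ha hObot
      refine ⟨_, inf_le_left, hcyc, hidx, mem_inf.2 ⟨htS, fun y hy => ?_⟩, inf_le_right,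
        fun s hs hsR => hb s hs fun h => hsR (mem_inf.2 ⟨hs, h⟩)⟩
      exact mem_centralizer_singleton_iff.1 (hOC hy)
  haveI := hRcyc
  have hout : ∀ s ∈ (S : Subgroup G), s ∉ R → s * s = 1 ∧ ∀ y ∈ R, s * y * s⁻¹ = y⁻¹ := by
    intro s hs hsR
    haveI : IsCyclic ((R.subgroupOf (S : Subgroup G)).map eS.toMonoidHom) :=
      ((subgroupOfEquivOfLe hRS).symm.trans
        ((R.subgroupOf (S : Subgroup G)).equivMapOfInjective eS.toMonoidHom eS.injective)).isCyclic.1
          hRcyc
    obtain ⟨h1, h2⟩ := inverts_of_cyclic_index_two hn'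
      ((R.subgroupOf (S : Subgroup G)).map eS.toMonoidHom)
      (by rw [show eS.toMonoidHom = (eS : (S : Subgroup G) →* DihedralGroup n) from rfl,
        index_map_equiv]; exact hRidx)
      (x := eS ⟨s, hs⟩) (by
        rintro ⟨y, hy, hye⟩
        rw [eS.injective hye] at hy
        exact hsR hy)
    refine ⟨?_, fun y hy => ?_⟩
    · rw [← map_mul, EmbeddingLike.map_eq_one_iff] at h1
      exact congrArg Subtype.val h1
    · have h := h2 (eS ⟨y, hRS hy⟩) ⟨⟨y, hRS hy⟩, hy, rfl⟩
      rw [← map_inv, ← map_inv, ← map_mul, ← map_mul] at h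
      exact congrArg Subtype.val (eS.injective h)
  obtain ⟨s, hsS, hsR⟩ : ∃ s ∈ (S : Subgroup G), s ∉ R := by
    by_contra h
    push Not at h
    rw [relIndex_eq_one.2 (fun x hx => h x hx)] at hRidx
    omega
  have hs1 : s ≠ 1 := fun h => hsR (h ▸ one_mem _)
  have hs2 : orderOf s = 2 := orderOf_eq_prime (by rw [sq]; exact (hout s hsS hsR).1) hs1
  have hOcomm : ∀ x ∈ O, ∀ y ∈ O, x * y = y * x := by
    intro x hx y hy
    have h : s * (x * y) * s⁻¹ = (x * y)⁻¹ := hRb s hsS hsR _ (mul_mem hx hy)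
    have h2 : s * (x * y) * s⁻¹ = x⁻¹ * y⁻¹ := by
      rw [← hRb s hsS hsR x hx, ← hRb s hsS hsR y hy]; group
    rw [h2, mul_inv_rev] at h
    calc x * y = (y⁻¹ * x⁻¹)⁻¹ := by group
      _ = (x⁻¹ * y⁻¹)⁻¹ := by rw [h]
      _ = y * x := by group
  have hRcomm : ∀ x ∈ R, ∀ y ∈ R, x * y = y * x := fun x hx y hy =>
    congrArg Subtype.val ((IsCyclic.isMulCommutative (α := R)).is_comm.comm ⟨x, hx⟩ ⟨y, hy⟩)
  have hROc : ∀ x ∈ O, ∀ y ∈ R, x * y = y * x := fun x hx y hy => hRO hy x hx
  -- the abelian subgroup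
  let K : Subgroup G :=
    { carrier := {g | ∃ o ∈ O, ∃ y ∈ R, g = o * y}
      one_mem' := ⟨1, one_mem _, 1, one_mem _, (one_mul 1).symm⟩
      mul_mem' := by
        rintro _ _ ⟨o, ho, y, hy, rfl⟩ ⟨o', ho', y', hy', rfl⟩
        refine ⟨o * o', mul_mem ho ho', y * y', mul_mem hy hy', ?_⟩
        calc o * y * (o' * y') = o * (y * o') * y' := by group
          _ = o * (o' * y) * y' := by rw [hROc o' ho' y hy]
          _ = o * o' * (y * y') := by group
      inv_mem' := by
        rintro _ ⟨o, ho, y, hy, rfl⟩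
        refine ⟨o⁻¹, inv_mem ho, y⁻¹, inv_mem hy, ?_⟩
        rw [hROc _ (inv_mem ho) _ (inv_mem hy), mul_inv_rev] }
  have hKmem : ∀ g, g ∈ K ↔ ∃ o ∈ O, ∃ y ∈ R, g = o * y := fun g => Iff.rfl
  have hKcomm : ∀ a ∈ K, ∀ b ∈ K, a * b = b * a := by
    rintro _ ⟨o, ho, y, hy, rfl⟩ _ ⟨o', ho', y', hy', rfl⟩
    calc o * y * (o' * y') = o * (y * o') * y' := by group
      _ = o * (o' * y) * y' := by rw [hROc o' ho' y hy]
      _ = (o * o') * (y * y') := by group
      _ = (o' * o) * (y' * y) := by rw [hOcomm o ho o' ho', hRcomm y hy y' hy']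
      _ = o' * (o * y') * y := by group
      _ = o' * (y' * o) * y := by rw [hROc o ho y' hy']
      _ = o' * y' * (o * y) := by group
  have hKC : K ≤ C := by
    rintro _ ⟨o, ho, y, hy, rfl⟩
    exact mul_mem (hOC ho) (hSC (hRS hy))
  have htK : t ∈ K := ⟨1, one_mem _, t, htR, (one_mul t).symm⟩
  have hunique : ∀ o ∈ O, ∀ y ∈ R, o * y = 1 → o = 1 ∧ y = 1 := by
    intro o ho y hy h
    have h1 : o = 1 := hOS o ho (by rw [eq_inv_of_mul_eq_one_left h]; exact inv_mem (hRS hy))
    rw [h1, one_mul] at h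
    exact ⟨h1, h⟩
  have hinvK : ∀ x ∈ K, s * x * s⁻¹ = x⁻¹ := by
    rintro _ ⟨o, ho, y, hy, rfl⟩
    calc s * (o * y) * s⁻¹ = (s * o * s⁻¹) * (s * y * s⁻¹) := by group
      _ = o⁻¹ * y⁻¹ := by rw [hRb s hsS hsR o ho, (hout s hsS hsR).2 y hy]
      _ = (o * y)⁻¹ := by rw [hROc _ (inv_mem ho) _ (inv_mem hy), mul_inv_rev]
  have hinvol : ∀ x ∈ K, x * x = 1 → x = 1 ∨ x = t := by
    rintro _ ⟨o, ho, y, hy, rfl⟩ h
    have h' : (o * o) * (y * y) = 1 := by
      rw [← h]
      calc (o * o) * (y * y) = o * (o * y) * y := by group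
        _ = o * (y * o) * y := by rw [hROc o ho y hy]
        _ = o * y * (o * y) := by group
    obtain ⟨ho2, hy2⟩ := hunique _ (mul_mem ho ho) _ (mul_mem hy hy) h'
    have ho1 : o = 1 := orderOf_eq_one_iff.1 (Nat.eq_one_of_dvd_coprimes
      (Nat.coprime_two_right.2 hOodd)
      (by have := orderOf_dvd_natCard (⟨o, ho⟩ : O); rwa [orderOf_mk] at this)
      (orderOf_dvd_of_pow_eq_one (by rw [sq]; exact ho2)))
    rw [ho1, one_mul]
    by_contra hne
    push Not at hne
    haveI := Fintype.ofFinite R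
    have h3 : 3 ≤ (Finset.univ.filter fun z : R => z ^ 2 = 1).card := by
      have hts : (⟨t, htR⟩ : R) ≠ ⟨y, hy⟩ := fun h => hne.2 (congrArg Subtype.val h).symm
      have ht1 : (1 : R) ∉ ({⟨t, htR⟩, ⟨y, hy⟩} : Finset R) := by
        rw [Finset.mem_insert, Finset.mem_singleton]
        rintro (h | h)
        · rw [show t = 1 from (congrArg Subtype.val h).symm, orderOf_one] at ht
          omega
        · exact hne.1 (congrArg Subtype.val h).symm
      refine le_trans (by rw [Finset.card_insert_of_notMem ht1, Finset.card_pair hts])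
        (Finset.card_le_card (s := {(1 : R), ⟨t, htR⟩, ⟨y, hy⟩}) fun z hz => ?_)
      · simp only [Finset.mem_filter, Finset.mem_univ, true_and]
        simp only [Finset.mem_insert, Finset.mem_singleton] at hz
        rcases hz with rfl | rfl | rfl
        · simp
        · exact Subtype.ext (by simp [sq, htt])
        · exact Subtype.ext (by simp [sq, hy2])
    have hle := IsCyclic.card_pow_eq_one_le (α := R) (n := 2) two_pos
    omega
  have hsC : s ∈ C := hSC hsS
  have hsK : s ∉ K := by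
    rintro ⟨o, ho, y, hy, h⟩
    have h1 : o = 1 := hOS o ho (by
      rw [show o = s * y⁻¹ by rw [h]; group]; exact mul_mem hsS (inv_mem (hRS hy)))
    rw [h1, one_mul] at h
    exact hsR (h ▸ hy)
  have hH : K ⊔ zpowers s = C := by
    refine le_antisymm (sup_le hKC (zpowers_le.2 hsC)) fun c hc => ?_
    obtain ⟨o, ho, y, hy, rfl⟩ := hdec c hc
    refine mul_mem (mem_sup_left ⟨o, ho, 1, one_mem _, (mul_one o).symm⟩) ?_
    by_cases hyR : y ∈ R
    · exact mem_sup_left ⟨1, one_mem _, y, hyR, (one_mul y).symm⟩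
    · have h2 : y * s⁻¹ ∈ R := by
        have hi : (R.subgroupOf (S : Subgroup G)).index = 2 := hRidx
        have := (mul_mem_iff_of_index_two hi (a := ⟨y, hy⟩) (b := (⟨s, hsS⟩ : (S : Subgroup G))⁻¹)).2
          (iff_of_false hyR (fun h => hsR (inv_mem_iff.1 (mem_subgroupOf.1 h))))
        exact mem_subgroupOf.1 this
      rw [← inv_mul_cancel_right y s]
      exact mul_mem (mem_sup_left ⟨1, one_mem _, _, h2, (one_mul _).symm⟩)
        (mem_sup_right (mem_zpowers s))
  have hCK : K ⊓ centralizer ({s} : Set G) = zpowers t := by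
    refine le_antisymm (fun x hx => ?_) (zpowers_le.2 (mem_inf.2 ⟨htK,
      mem_centralizer_singleton_iff.2 (htZ s hsS).symm⟩))
    obtain ⟨hxK, hxs⟩ := mem_inf.1 hx
    have h : s * x * s⁻¹ = x := by rw [← mem_centralizer_singleton_iff.1 hxs]; group
    rw [hinvK x hxK] at h
    rcases hinvol x hxK (inv_eq_iff_mul_eq_one.1 h) with rfl | rfl
    · exact one_mem _
    · exact mem_zpowers _
  have hodd_mem : ∀ x ∈ K, ∀ p : ℕ, Odd p → x ^ p = 1 → x ∈ O := by
    rintro _ ⟨o, ho, y, hy, rfl⟩ p hp h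
    rw [(show Commute o y from hROc o ho y hy).mul_pow] at h
    obtain ⟨-, hy1⟩ := hunique _ (pow_mem ho p) _ (pow_mem hy p) h
    obtain ⟨k, hk⟩ := IsPGroup.iff_orderOf.1 S.isPGroup' ⟨y, hRS hy⟩
    rw [orderOf_mk] at hk
    rw [orderOf_eq_one_iff.1 (Nat.eq_one_of_dvd_coprimes ((Nat.coprime_two_left.2 hp).pow_left k)
      hk.dvd (orderOf_dvd_of_pow_eq_one hy1)), mul_one]
    exact ho
  have hTI : ∀ g : G, g ∉ C → K ⊓ K.map (MulAut.conj g).toMonoidHom = ⊥ := by
    intro g hg
    by_contra hne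
    obtain ⟨x, hx, hx1⟩ := (bot_or_exists_ne_one _).resolve_left hne
    obtain ⟨p, hp, hpx⟩ := Nat.exists_prime_and_dvd
      (fun h => hx1 (orderOf_eq_one_iff.1 h))
    haveI := Fact.mk hp
    obtain ⟨y, hy, hyo⟩ : ∃ y ∈ K ⊓ K.map (MulAut.conj g).toMonoidHom, orderOf y = p :=
      ⟨x ^ (orderOf x / p), pow_mem hx _, by
        rw [orderOf_pow_orderOf_div (orderOf_pos x).ne' hpx]⟩
    obtain ⟨hyK, y', hy'K, hyy⟩ := mem_inf.1 hy
    rw [MulEquiv.coe_toMonoidHom, MulAut.conj_apply] at hyy
    have hy'o : orderOf y' = p := by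
      rw [← hyo, ← hyy, ← MulAut.conj_apply, MulEquiv.orderOf_eq]
    have hy1 : y ≠ 1 := fun h => by rw [h, orderOf_one] at hyo; exact hp.ne_one hyo.symm
    have hy'1 : y' ≠ 1 := fun h => by rw [h, orderOf_one] at hy'o; exact hp.ne_one hy'o.symm
    rcases hp.eq_two_or_odd' with rfl | hodd
    · rcases hinvol y hyK (by rw [← sq, ← hyo, pow_orderOf_eq_one]) with h | h
      · exact hy1 h
      rcases hinvol y' hy'K (by rw [← sq, ← hy'o, pow_orderOf_eq_one]) with h' | h'
      · exact hy'1 h'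
      rw [h, h'] at hyy
      exact hg (mem_centralizer_singleton_iff.2 (mul_inv_eq_iff_eq_mul.1 hyy))
    · have hyO := hodd_mem y hyK p hodd (hyo ▸ pow_orderOf_eq_one y)
      have hy'O := hodd_mem y' hy'K p hodd (hy'o ▸ pow_orderOf_eq_one y')
      set i := g * t * g⁻¹ with hi
      have hii : i * i = 1 := by
        calc i * i = g * (t * t) * g⁻¹ := by rw [hi]; group
          _ = 1 := by rw [htt]; group
      have hiy : i * y = y * i := by
        rw [← hyy, hi]
        calc g * t * g⁻¹ * (g * y' * g⁻¹) = g * (t * y') * g⁻¹ := by group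
          _ = g * (y' * t) * g⁻¹ := by rw [← mem_centralizer_singleton_iff.1 (hOC hy'O)]
          _ = g * y' * g⁻¹ * (g * t * g⁻¹) := by group
      have hiC : i ∈ C := hc (zpowers y) (zpowers_le.2 hyO) (zpowers_ne_bot.2 hy1)
        (centralizer_le_normalizer _ (mem_centralizer_iff.2 fun z hz => by
          obtain ⟨k, rfl⟩ := mem_zpowers_iff.1 hz
          exact ((show Commute i y from hiy).zpow_right k).symm.eq))
      obtain ⟨o, ho, w, hw, how⟩ := hdec i hiC
      have hwR : w ∈ R := by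
        by_contra hwR
        have h1 : w * y * w⁻¹ = y⁻¹ := hRb w hw hwR y hyO
        have h2 : i * y * i⁻¹ = y⁻¹ := by
          calc i * y * i⁻¹ = o * (w * y * w⁻¹) * o⁻¹ := by rw [how]; group
            _ = (o * y⁻¹) * o⁻¹ := by rw [h1]
            _ = (y⁻¹ * o) * o⁻¹ := by rw [hOcomm o ho _ (inv_mem hyO)]
            _ = y⁻¹ := by group
        rw [hiy, mul_inv_cancel_right, eq_inv_iff_mul_eq_one] at h2
        have h3 : p ∣ 2 := hyo ▸ orderOf_dvd_of_pow_eq_one (by rw [sq]; exact h2)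
        rw [(Nat.prime_dvd_prime_iff_eq hp Nat.prime_two).1 h3] at hodd
        exact absurd hodd (by decide)
      rcases hinvol i ⟨o, ho, w, hwR, how⟩ hii with h | h
      · rw [hi, conj_eq_one_iff] at h
        rw [h, orderOf_one] at ht
        omega
      · rw [hi, mul_inv_eq_iff_eq_mul] at h
        exact hg (mem_centralizer_singleton_iff.2 h)
  exact PSLTwoGeneral.exists_equiv_of_conclusion
    (CfsgLib.BSW.conclusion_of_centralizer t ht K
      ⟨⟨fun a b => Subtype.ext (hKcomm a a.2 b b.2)⟩⟩ hKC htK s hs2 hsC hsK hH hCK hinvK hTI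
      (isConj_involutions hG S hn eS))
    (card_ne_twelve S hG)

end CfsgLib.Classification.DihedralBSW
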