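import Cfsg.Prelude.Def_CaseTheorems

/-!
# Klein four-subgroups spanned by two commuting involutions
-/

set_option autoImplicit false

namespace CfsgLib.Classification

/-- The four-subgroup spanned by two commuting involutions. -/
def fourSpan {G : Type*} [Group G] (u z : G) (hu : u * u = 1) (hz : z * z = 1)
    (h : u * z = z * u) : Subgroup G where
  carrier := {1, u, z, u * z}
  one_mem' := by simp
  mul_mem' := by
    have h1 : ∀ g : G, u * (u * g) = g := fun g => by rw [← mul_assoc, hu, one_mul]
    have h2 : ∀ g : G, z * (u * g) = u * (z * g) := fun g => by rw [← mul_assoc, ← h, mul_assoc]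
    have h3 : ∀ g : G, z * (z * g) = g := fun g => by rw [← mul_assoc, hz, one_mul]
    rintro a b (rfl | rfl | rfl | rfl) (rfl | rfl | rfl | rfl) <;>
      simp [mul_assoc, hu, hz, h1, h2, h3, ← h]
  inv_mem' := by
    have hu' : u⁻¹ = u := inv_eq_of_mul_eq_one_left hu
    have hz' : z⁻¹ = z := inv_eq_of_mul_eq_one_left hz
    rintro a (rfl | rfl | rfl | rfl) <;> simp [hu', hz', ← h]

theorem mem_fourSpan {G : Type*} [Group G] {u z : G} {hu : u * u = 1} {hz : z * z = 1}
    {h : u * z = z * u} {x : G} :
    x ∈ fourSpan u z hu hz h ↔ x = 1 ∨ x = u ∨ x = z ∨ x = u * z := Iff.rfl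

theorem isKleinFour_fourSpan {G : Type*} [Group G] {u z : G} (hu : u * u = 1) (hz : z * z = 1)
    (h : u * z = z * u) (hu1 : u ≠ 1) (hz1 : z ≠ 1) (hne : u ≠ z) :
    IsKleinFour (fourSpan u z hu hz h) := by
  classical
  have hcard : Nat.card (fourSpan u z hu hz h) = 4 := by
    have huz : u * z ≠ 1 := fun h' => hne (by
      calc u = u * (z * z) := by rw [hz, mul_one]
        _ = z := by rw [← mul_assoc, h', one_mul])
    have e : Nat.card (fourSpan u z hu hz h) = ({1, u, z, u * z} : Finset G).card := by
      rw [← Nat.card_eq_finsetCard]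
      exact Nat.card_congr (Equiv.subtypeEquivRight fun x => by simp [mem_fourSpan])
    rw [e, Finset.card_insert_of_notMem (by simp [hu1.symm, hz1.symm, huz.symm]),
      Finset.card_insert_of_notMem (by simp [hne, hz1]),
      Finset.card_insert_of_notMem (by simp [hu1]), Finset.card_singleton]
  refine ⟨hcard, ?_⟩
  have : Nontrivial (fourSpan u z hu hz h) :=
    ⟨⟨⟨u, by simp [mem_fourSpan]⟩, 1, fun h' => hu1 (congrArg Subtype.val h')⟩⟩
  rw [Monoid.exponent_eq_prime_iff Nat.prime_two]
  intro g hg
  refine orderOf_eq_prime ?_ hg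
  obtain ⟨g, hg'⟩ := g
  apply Subtype.ext
  rw [sq]
  rcases mem_fourSpan.mp hg' with rfl | rfl | rfl | rfl
  · simp
  · simpa using hu
  · simpa using hz
  · have : u * z * (u * z) = 1 := by
      rw [mul_assoc, ← mul_assoc z, ← h, mul_assoc u, hz, mul_one, hu]
    simpa using this

/-- Members of a four-group square to one. -/
theorem sq_eq_one_of_isKleinFour {G : Type*} [Group G] {U : Subgroup G} (hU : IsKleinFour U)
    {x : G} (hx : x ∈ U) : x * x = 1 := by
  have := hU
  exact congrArg Subtype.val (IsKleinFour.mul_self (⟨x, hx⟩ : U))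

/-- A four-group is commutative. -/
theorem comm_of_isKleinFour {G : Type*} [Group G] {U : Subgroup G} (hU : IsKleinFour U)
    {x y : G} (hx : x ∈ U) (hy : y ∈ U) : x * y = y * x := by
  have := hU
  have := (IsKleinFour.isMulCommutative (G := U)).is_comm.comm ⟨x, hx⟩ ⟨y, hy⟩
  exact congrArg Subtype.val this

/-- A four-group contains an element avoiding `1` and any given element. -/
theorem exists_mem_ne_of_isKleinFour {G : Type*} [Group G] {U : Subgroup G} (hU : IsKleinFour U)
    (z : G) : ∃ u ∈ U, u ≠ 1 ∧ u ≠ z := by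
  classical
  by_contra h
  push Not at h
  have : Finite U := Nat.finite_of_card_ne_zero (by rw [hU.card_four]; norm_num)
  have hsub : (U : Set G) ⊆ {1, z} := fun x hx => by
    by_cases hx1 : x = 1
    · simp [hx1]
    · simp [h x hx hx1]
  have h2 : (U : Set G).ncard ≤ 2 := (Set.ncard_le_ncard hsub).trans
    ((Set.ncard_insert_le _ _).trans (by simp))
  have h4 : (U : Set G).ncard = 4 := (Nat.card_coe_set_eq _).symm.trans hU.card_four
  omega

end CfsgLib.Classification

namespace CfsgLib.Classification

/-- The image of a four-group under an injective homomorphism is a four-group. -/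
theorem isKleinFour_map {G H : Type*} [Group G] [Group H] (f : G →* H) (hf : Function.Injective f)
    {U : Subgroup G} (hU : IsKleinFour U) : IsKleinFour (U.map f) := by
  let e := U.equivMapOfInjective f hf
  exact ⟨(Nat.card_congr e.toEquiv).symm.trans hU.card_four,
    (Monoid.exponent_eq_of_mulEquiv e).symm.trans hU.exponent_two⟩

/-- A group of `2`-rank at least two has a four-subgroup. -/
theorem exists_isKleinFour_of_not_pRankLE {G : Type*} [Group G] [Finite G]
    (h : ¬ Cfsg.PRankLE 2 1 G) : ∃ U : Subgroup G, IsKleinFour U := by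
  simp only [Cfsg.PRankLE] at h
  push Not at h
  obtain ⟨A, hA, hA2, hcard⟩ := h
  obtain ⟨u, huA, hu1⟩ : ∃ u ∈ A, u ≠ 1 := by
    by_contra h'
    push Not at h'
    have : Subsingleton A := ⟨fun a b => Subtype.ext ((h' a a.2).trans (h' b b.2).symm)⟩
    rw [Nat.card_of_subsingleton (1 : A)] at hcard
    omega
  obtain ⟨z, hzA, hz1, hzu⟩ : ∃ z ∈ A, z ≠ 1 ∧ z ≠ u := by
    by_contra h'
    push Not at h'
    have hsub : (A : Set G) ⊆ {1, u} := fun x hx => by
      by_cases hx1 : x = 1
      · exact Or.inl hx1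
      · exact Or.inr (h' x hx hx1)
    have := (Set.ncard_le_ncard hsub).trans ((Set.ncard_insert_le _ _).trans (by simp : _ ≤ 2))
    rw [← Nat.card_coe_set_eq] at this
    simp only [SetLike.coe_sort_coe] at this
    omega
  have hsq : ∀ a ∈ A, a * a = 1 := fun a ha => by rw [← sq]; exact hA2 a ha
  exact ⟨_, isKleinFour_fourSpan (hsq u huA) (hsq z hzA)
    (congrArg Subtype.val (hA.is_comm.comm ⟨u, huA⟩ ⟨z, hzA⟩)) hu1 hz1 (Ne.symm hzu)⟩

/-- A subgroup containing a four-group has `2`-rank at least two. -/
theorem not_pRankLE_of_isKleinFour {G : Type*} [Group G] {U Q : Subgroup G}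
    (hU : IsKleinFour U) (h : U ≤ Q) : ¬ Cfsg.PRankLE 2 1 Q := by
  intro hQ
  have e := Subgroup.subgroupOfEquivOfLe h
  have := hQ (U.subgroupOf Q)
    ⟨⟨fun a b => Subtype.ext (Subtype.ext (comm_of_isKleinFour hU a.2 b.2))⟩⟩
    (fun a ha => Subtype.ext (by
      rw [sq]; exact sq_eq_one_of_isKleinFour hU ha))
  rw [Nat.card_congr e.toEquiv, hU.card_four] at this
  norm_num at this

end CfsgLib.Classification
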