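import Cfsg.Agent.Small.Dihedral
import Cfsg.Prelude.Def_CaseTheorems
import Mathlib

/-!
# Finite `p`-groups in which every abelian normal subgroup is cyclic

Either the group is cyclic, or `p = 2` and it is generalized quaternion, dihedral of order at least
16, or quasi-dihedral (Gorenstein 5.4.10).
-/

set_option autoImplicit false

namespace CfsgLib.Classification.CyclicNormal

variable {P : Type*} [Group P]

/-- The power formula when `y x = c x y` with `c` commuting with `x` and `y`. -/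
theorem mul_pow_of_comm {x y c : P} (h : y * x = c * x * y) (hcx : Commute c x) (hcy : Commute c y)
    (n : ℕ) : (x * y) ^ n = c ^ n.choose 2 * x ^ n * y ^ n := by
  have key : ∀ m : ℕ, y ^ m * x = c ^ m * x * y ^ m := by
    intro m
    induction m with
    | zero => simp
    | succ m ih =>
      calc y ^ (m + 1) * x = y ^ m * (y * x) := by rw [pow_succ]; group
        _ = y ^ m * c * x * y := by rw [h]; group
        _ = c * (y ^ m * x) * y := by rw [← (hcy.pow_right m).eq]; group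
        _ = c ^ (m + 1) * x * y ^ (m + 1) := by rw [ih, pow_succ' c, pow_succ y]; group
  induction n with
  | zero => simp
  | succ n ih =>
    rw [pow_succ, ih, Nat.choose_succ_succ, Nat.choose_one_right, add_comm n, pow_add]
    calc c ^ n.choose 2 * x ^ n * y ^ n * (x * y)
        = c ^ n.choose 2 * x ^ n * (y ^ n * x) * y := by group
      _ = c ^ n.choose 2 * (x ^ n * c ^ n) * x * y ^ n * y := by rw [key]; group
      _ = c ^ n.choose 2 * c ^ n * x ^ (n + 1) * y ^ (n + 1) := by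
          rw [← ((hcx.pow_left n).pow_right n).eq, pow_succ x, pow_succ y]; group

/-- Powers of an element acting on a cyclic group. -/
theorem conj_pow_zpow {a u : P} {r : ℤ} (h : u * a * u⁻¹ = a ^ r) (m : ℕ) :
    u ^ m * a * (u ^ m)⁻¹ = a ^ r ^ m := by
  induction m with
  | zero => simp
  | succ m ih =>
    calc u ^ (m + 1) * a * (u ^ (m + 1))⁻¹ = u * (u ^ m * a * (u ^ m)⁻¹) * u⁻¹ := by
          rw [pow_succ']; group
      _ = (u * a * u⁻¹) ^ r ^ m := by rw [ih, conj_zpow]
      _ = a ^ r ^ (m + 1) := by rw [h, ← zpow_mul, ← pow_succ']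

/-- If `r ^ p ≡ 1` modulo `p ^ n` (`p` odd, `n ≥ 1`), then `r ≡ 1` modulo `p ^ (n - 1)`. -/
theorem dvd_sub_one_of_odd {p n : ℕ} (hp : p.Prime) (hodd : Odd p) {r : ℤ} (hn : 1 ≤ n)
    (h : (p : ℤ) ^ n ∣ r ^ p - 1) : (p : ℤ) ^ (n - 1) ∣ r - 1 := by
  have := Fact.mk hp
  have h1 : (p : ℤ) ∣ r - 1 := by
    have hd : (p : ℤ) ∣ r ^ p - 1 := (dvd_pow_self _ (by omega)).trans h
    rw [← ZMod.intCast_zmod_eq_zero_iff_dvd] at hd ⊢
    push_cast at hd ⊢
    rwa [ZMod.pow_card] at hd
  obtain ⟨b, hb⟩ := h1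
  have hs := odd_sq_dvd_geom_sum₂_sub (R := ℤ) (p := p) (a := 1) (b := b) hodd
  simp only [one_pow, mul_one] at hs
  have hr : (1 : ℤ) + p * b = r := by linarith
  rw [hr] at hs
  set S := ∑ i ∈ Finset.range p, r ^ i with hS
  obtain ⟨e, he⟩ := hs
  have hgeom : S * (r - 1) = r ^ p - 1 := geom_sum_mul r p
  have hSe : S = p * (1 + p * e) := by linear_combination he
  have hp0 : (p : ℤ) ≠ 0 := by exact_mod_cast hp.ne_zero
  have h2 : (p : ℤ) ^ (n - 1) ∣ (1 + p * e) * (r - 1) := by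
    rw [← mul_dvd_mul_iff_left hp0, ← pow_succ', Nat.sub_add_cancel hn, ← mul_assoc, ← hSe, hgeom]
    exact h
  refine IsCoprime.dvd_of_dvd_mul_left ?_ h2
  exact IsCoprime.pow_left ⟨-e, 1, by ring⟩

/-- Square roots of one modulo `2 ^ n`, congruent to one modulo four. -/
theorem dvd_sub_one_of_two {n : ℕ} {r : ℤ} (hn : 2 ≤ n) (h4 : (4 : ℤ) ∣ r - 1)
    (h : (2 : ℤ) ^ n ∣ r ^ 2 - 1) : (2 : ℤ) ^ (n - 1) ∣ r - 1 := by
  obtain ⟨t, ht⟩ := h4
  have h2 : (2 : ℤ) * 2 ^ (n - 1) ∣ 2 * ((2 * t + 1) * (r - 1)) := by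
    rw [← pow_succ', Nat.sub_add_cancel (by omega)]
    convert h using 1
    linear_combination (1 - r) * ht
  rw [mul_dvd_mul_iff_left (by norm_num : (2 : ℤ) ≠ 0)] at h2
  exact IsCoprime.dvd_of_dvd_mul_left (IsCoprime.pow_left ⟨-t, 1, by ring⟩) h2

variable {p n : ℕ}

/-- The hypothesis that all abelian normal subgroups are cyclic. -/
def AllCyclic (P : Type*) [Group P] : Prop :=
  ∀ A : Subgroup P, A.Normal → IsMulCommutative A → IsCyclic A

/-- Two commuting elements of order `p` generating a normal subgroup contradict the hypothesis. -/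
theorem no_elementary [Finite P] [hp : Fact p.Prime] (hn : AllCyclic P) {z v : P}
    (hz : z ^ p = 1) (hz1 : z ≠ 1) (hv : v ^ p = 1) (hvz : v ∉ Subgroup.zpowers z)
    (hc : Commute z v) (hzn : ∀ g : P, g * z * g⁻¹ ∈ Subgroup.zpowers z)
    (hvn : ∀ g : P, g * v * g⁻¹ ∈ Subgroup.zpowers z ⊔ Subgroup.zpowers v) : False := by
  set E := Subgroup.zpowers z ⊔ Subgroup.zpowers v with hE
  have hEn : E.Normal := by
    refine ⟨fun x hx g => ?_⟩
    have hle : E ≤ E.comap (MulAut.conj g).toMonoidHom := by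
      refine sup_le (Subgroup.zpowers_le.mpr ?_) (Subgroup.zpowers_le.mpr ?_)
      · exact Subgroup.mem_sup_left (hzn g)
      · exact hvn g
    exact hle hx
  have hEclo : E = Subgroup.closure {z, v} := by
    rw [hE, Subgroup.zpowers_eq_closure, Subgroup.zpowers_eq_closure, ← Subgroup.closure_union]
    rfl
  have hEc : IsMulCommutative E := by
    rw [hEclo]
    refine Subgroup.isMulCommutative_closure fun x hx y hy => ?_
    rcases hx with rfl | rfl <;> rcases hy with rfl | rfl <;>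
      first | rfl | exact hc.eq | exact hc.eq.symm
  have hcyc := hn E hEn hEc
  classical
  cases nonempty_fintype E
  have hle := IsCyclic.card_pow_eq_one_le (α := E) (n := p) hp.out.pos
  have hzpow : ∀ x ∈ Subgroup.zpowers z, x ^ p = 1 := by
    intro x hx
    obtain ⟨j, rfl⟩ := Subgroup.mem_zpowers_iff.mp hx
    rw [← zpow_natCast, ← zpow_mul, mul_comm, zpow_mul, zpow_natCast, hz, one_zpow]
  let g : Option (Subgroup.zpowers z) → (Finset.univ.filter fun a : E => a ^ p = 1) := fun o =>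
    match o with
    | none => ⟨⟨v, Subgroup.mem_sup_right (Subgroup.mem_zpowers v)⟩, by
        simp [Subtype.ext_iff, hv]⟩
    | some x => ⟨⟨x, Subgroup.mem_sup_left x.2⟩, by simp [Subtype.ext_iff, hzpow x x.2]⟩
  have hg : Function.Injective g := by
    rintro (_ | x) (_ | y) h
    · rfl
    · exact absurd (show v ∈ Subgroup.zpowers z by
        rw [show v = (y : P) from congrArg (fun a => ((a.1 : E) : P)) h]; exact y.2) hvz
    · exact absurd (show v ∈ Subgroup.zpowers z by
        rw [show v = (x : P) from (congrArg (fun a => ((a.1 : E) : P)) h).symm]; exact x.2) hvz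
    · exact congrArg some (Subtype.ext (congrArg (fun a => ((a.1 : E) : P)) h))
  cases nonempty_fintype (Subgroup.zpowers z)
  have h1 := Fintype.card_le_of_injective g hg
  rw [Fintype.card_option, Fintype.card_coe, ← Nat.card_eq_fintype_card, Nat.card_zpowers,
    orderOf_eq_prime hz hz1] at h1
  omega

variable [Finite P] [hp : Fact p.Prime]

/-- No element outside `A = ⟨a⟩` acts on it like a power automorphism `a ↦ a ^ (1 + k p^(n-1))`. -/
theorem no_bad_extension (hn : AllCyclic P) {a : P} (ha : orderOf a = p ^ n)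
    (hn2 : 2 ≤ n) (hp2 : p = 2 → 3 ≤ n)
    (hA : (Subgroup.zpowers a).Normal) (hself : ∀ x : P, Commute x a → x ∈ Subgroup.zpowers a)
    (habel : ∀ g h : P, g * h * g⁻¹ * h⁻¹ ∈ Subgroup.zpowers a)
    {u : P} (hu : u ∉ Subgroup.zpowers a) (hup : u ^ p ∈ Subgroup.zpowers a)
    {k : ℤ} (hua : u * a * u⁻¹ = a * a ^ ((p : ℤ) ^ (n - 1) * k)) : False := by
  have hone : ∀ i : ℤ, a ^ i = 1 ↔ ((p : ℤ) ^ n ∣ i) := fun i => by
    rw [← orderOf_dvd_iff_zpow_eq_one, ha]; push_cast; rfl
  have hpn : (p : ℤ) ^ n = p * (p : ℤ) ^ (n - 1) := by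
    rw [← pow_succ', Nat.sub_add_cancel (by omega)]
  have hppn : (p : ℤ) ∣ (p : ℤ) ^ (n - 1) := dvd_pow_self _ (by omega)
  -- powers of `a` divisible by `p` are centralized by `u`
  have hcen : ∀ i : ℤ, (p : ℤ) ∣ i → Commute u (a ^ i) := by
    rintro i ⟨j, rfl⟩
    have h1 : u * a ^ ((p : ℤ) * j) * u⁻¹ = a ^ ((p : ℤ) * j) := by
      rw [← conj_zpow, hua, (Commute.self_zpow a _).mul_zpow, ← zpow_mul]
      rw [show a ^ (((p : ℤ) ^ (n - 1) * k) * ((p : ℤ) * j)) = 1 from (hone _).mpr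
        ⟨k * j, by rw [hpn]; ring⟩, mul_one]
    exact mul_inv_eq_iff_eq_mul.mp h1
  obtain ⟨i, hi⟩ := Subgroup.mem_zpowers_iff.mp hup
  have hpi : (p : ℤ) ∣ i := by
    by_contra hnd
    obtain ⟨s, t, hst⟩ : IsCoprime i ((p : ℤ) ^ n) :=
      ((Nat.prime_iff_prime_int.mp hp.out).coprime_iff_not_dvd.mpr hnd).symm.pow_right
    apply hu
    apply hself
    have hai : a = (u ^ p) ^ s := by
      rw [← hi, ← zpow_mul]
      have : a ^ (i * s) = a ^ (1 : ℤ) := by
        rw [← orderOf_dvd_sub_iff_zpow_eq_zpow, ha]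
        exact ⟨-t, by push_cast; linear_combination hst⟩
      rw [this, zpow_one]
    rw [hai]
    exact ((Commute.self_pow u p)).zpow_right s
  obtain ⟨i', hi'⟩ := hpi
  set m := (p : ℤ) ^ (n - 1) * k with hm
  have hc : a ^ m ∈ Subgroup.zpowers a := Subgroup.zpow_mem _ (Subgroup.mem_zpowers a) _
  have hpm : (p : ℤ) ∣ m := hppn.mul_right k
  -- power of `a ^ j * u`
  have hpow : ∀ j : ℤ, ∀ w : P, w * a * w⁻¹ = a * a ^ m → Commute w (a ^ m) →
      (a ^ j * w) ^ p = a ^ (m * j * (p.choose 2 : ℕ) + j * p) * w ^ p := by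
    intro j w hw hwc
    have h : w * a ^ j = a ^ (m * j) * a ^ j * w := by
      have : w * a ^ j * w⁻¹ = a ^ (m * j) * a ^ j := by
        rw [← conj_zpow, hw, (Commute.self_zpow a _).mul_zpow, ← zpow_mul]
        exact ((Commute.refl a).zpow_zpow _ _).eq
      exact mul_inv_eq_iff_eq_mul.mp this
    have hwc' : Commute w (a ^ (m * j)) := by rw [zpow_mul]; exact hwc.zpow_right j
    rw [mul_pow_of_comm h ((Commute.refl a).zpow_zpow _ _) hwc'.symm]
    rw [← zpow_natCast (a ^ (m * j)), ← zpow_natCast (a ^ j), ← zpow_mul, ← zpow_mul, ← zpow_add]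
  -- choose `v` of order `p` in the coset
  obtain ⟨j, hj⟩ : ∃ j : ℤ, (p : ℤ) ^ n ∣ m * j * (p.choose 2 : ℕ) + j * p + i := by
    rcases hp.out.eq_two_or_odd' with rfl | hodd
    · obtain ⟨n', rfl⟩ : ∃ n', n = n' + 3 := ⟨n - 3, by have := hp2 rfl; omega⟩
      refine ⟨-i' * (1 - 2 ^ (n' + 1) * k), 2 ^ n' * k ^ 2 * i', ?_⟩
      rw [hm, hi', Nat.choose_self, show n' + 3 - 1 = n' + 2 by omega]
      push_cast
      ring
    · obtain ⟨c, hc⟩ : p ∣ p.choose 2 := hp.out.dvd_choose_self (by omega)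
        (by rcases hodd with ⟨q, hq⟩; have := hp.out.two_le; omega)
      refine ⟨-i', -(k * i' * c), ?_⟩
      rw [hm, hi', hc, hpn]
      push_cast
      ring
  set v := a ^ j * u with hvdef
  have hv : v ^ p = 1 := by
    rw [hvdef, hpow j u hua (hcen m hpm), ← hi, ← zpow_add, hone]; exact hj
  have hvA : v ∉ Subgroup.zpowers a := by
    intro h
    apply hu
    have := mul_mem (inv_mem (Subgroup.zpow_mem _ (Subgroup.mem_zpowers a) j)) h
    simpa [hvdef] using this
  have hva : v * a * v⁻¹ = a * a ^ m := by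
    calc v * a * v⁻¹ = a ^ j * (u * a * u⁻¹) * (a ^ j)⁻¹ := by rw [hvdef]; group
      _ = a * a ^ m := by rw [hua]; group
  have hvm : Commute v (a ^ m) :=
    ((Commute.refl a).zpow_zpow j m).mul_left (hcen m hpm)
  set z := a ^ ((p : ℤ) ^ (n - 1)) with hz
  refine no_elementary (p := p) hn (z := z) (v := v) ?_ ?_ hv
    (fun h => hvA (Subgroup.zpowers_le.mpr (Subgroup.zpow_mem _ (Subgroup.mem_zpowers a) _) h))
    (((Commute.refl a).zpow_zpow _ j).mul_right (hcen _ hppn).symm) ?_ ?_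
  · rw [hz, ← zpow_natCast, ← zpow_mul, hone, hpn]; exact ⟨1, by ring⟩
  · intro h
    rw [hz, hone] at h
    have h' : p ^ n ∣ p ^ (n - 1) := by exact_mod_cast h
    have := (Nat.pow_dvd_pow_iff_le_right hp.out.one_lt).mp h'
    omega
  · intro g
    obtain ⟨l, hl⟩ := Subgroup.mem_zpowers_iff.mp (hA.conj_mem a (Subgroup.mem_zpowers a) g)
    refine Subgroup.mem_zpowers_iff.mpr ⟨l, ?_⟩
    rw [hz, ← conj_zpow, ← hl, ← zpow_mul, ← zpow_mul, mul_comm]
  · intro g
    obtain ⟨l, hl⟩ := Subgroup.mem_zpowers_iff.mp (habel g v)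
    have hgv : g * v * g⁻¹ = a ^ l * v := by rw [hl]; group
    have h1 : (a ^ l * v) ^ p = 1 := by rw [← hgv, conj_pow, hv, mul_one, mul_inv_cancel]
    rw [hpow l v hva hvm, hv, mul_one, hone] at h1
    have h2 : (p : ℤ) ^ (n - 1) ∣ l := by
      rcases hp.out.eq_two_or_odd' with rfl | hodd
      · obtain ⟨n', rfl⟩ : ∃ n', n = n' + 3 := ⟨n - 3, by have := hp2 rfl; omega⟩
        obtain ⟨w, hw⟩ := h1
        rw [hm, Nat.choose_self, show n' + 3 - 1 = n' + 2 by omega] at hw
        rw [show n' + 3 - 1 = n' + 2 by omega]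
        push_cast at hw ⊢
        have h3 : (1 + 2 ^ (n' + 1) * k) * l = 2 ^ (n' + 2) * w := by
          have : (2 : ℤ) * ((1 + 2 ^ (n' + 1) * k) * l) = 2 * (2 ^ (n' + 2) * w) := by
            linear_combination hw
          exact mul_left_cancel₀ (by norm_num) this
        exact IsCoprime.dvd_of_dvd_mul_left (IsCoprime.pow_left
          ⟨-(2 ^ n' * k), 1, by ring⟩) ⟨w, h3⟩
      · obtain ⟨c, hc⟩ : p ∣ p.choose 2 := hp.out.dvd_choose_self (by omega)
          (by rcases hodd with ⟨q, hq⟩; have := hp.out.two_le; omega)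
        obtain ⟨w, hw⟩ := h1
        have hp0 : (p : ℤ) ≠ 0 := by exact_mod_cast hp.out.ne_zero
        refine ⟨w - k * c * l, mul_left_cancel₀ hp0 ?_⟩
        rw [hm, hc, hpn] at hw
        push_cast at hw
        linear_combination hw
    obtain ⟨w, rfl⟩ := h2
    rw [hgv]
    refine mul_mem (Subgroup.mem_sup_left (Subgroup.mem_zpowers_iff.mpr ⟨w, ?_⟩))
      (Subgroup.mem_sup_right (Subgroup.mem_zpowers v))
    rw [hz, ← zpow_mul]

omit [Finite P] hp in
/-- A normal subgroup maximal among the abelian normal ones is self-centralizing in a `p`-group. -/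
theorem self_centralizing [Finite P] [Fact p.Prime] (hP : IsPGroup p P) {A : Subgroup P}
    (hAn : A.Normal) (hAc : IsMulCommutative A)
    (hmax : ∀ B : Subgroup P, B.Normal → IsMulCommutative B → A ≤ B → B = A) :
    ∀ x : P, (∀ a ∈ A, Commute x a) → x ∈ A := by
  intro x hx
  by_contra hxA
  have := hAn
  set C := Subgroup.centralizer (A : Set P) with hC
  have hCn : C.Normal := by
    refine ⟨fun c hc g => ?_⟩
    intro a ha
    have h := hc _ (hAn.conj_mem a ha g⁻¹)
    simp only [inv_inv] at h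
    calc a * (g * c * g⁻¹) = g * ((g⁻¹ * a * g) * c) * g⁻¹ := by group
      _ = g * (c * (g⁻¹ * a * g)) * g⁻¹ := by rw [h]
      _ = g * c * g⁻¹ * a := by group
  let π := QuotientGroup.mk' A
  have hπ : Function.Surjective π := QuotientGroup.mk'_surjective A
  have : (C.map π).Normal := hCn.map π hπ
  have hne : C.map π ≠ ⊥ := by
    intro h
    apply hxA
    have hxC : x ∈ C := fun a ha => (hx a ha).eq.symm
    have h1 := Subgroup.mem_map_of_mem π hxC
    rw [h, Subgroup.mem_bot] at h1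
    exact (QuotientGroup.eq_one_iff x).mp h1
  obtain ⟨y, hyC, hyc, hy1⟩ : ∃ y, y ∈ C.map π ∧ y ∈ Subgroup.center (P ⧸ A) ∧ y ≠ 1 := by
    let _ : MulAction (P ⧸ A) (C.map π) := MulAction.compHom _ (MulAut.conjNormal (H := C.map π))
    have hQ : IsPGroup p (P ⧸ A) := hP.to_quotient A
    obtain ⟨k, hk⟩ := IsPGroup.iff_card.1 (hQ.to_subgroup (C.map π))
    have hd : p ∣ Nat.card (C.map π) := by
      rcases k with _ | k
      · exact absurd (Subgroup.card_eq_one.mp (by simpa using hk)) hne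
      · exact hk ▸ dvd_pow_self p (Nat.succ_ne_zero k)
    have h1 : (1 : C.map π) ∈ MulAction.fixedPoints (P ⧸ A) (C.map π) := fun g =>
      map_one (MulAut.conjNormal (H := C.map π) g)
    obtain ⟨y, hy, hy1⟩ := hQ.exists_fixed_point_of_prime_dvd_card_of_fixed_point _ hd h1
    refine ⟨y, y.2, ?_, fun h => hy1 (Subtype.ext h.symm)⟩
    rw [Subgroup.mem_center_iff]
    intro g
    have h2 : g * (y : P ⧸ A) * g⁻¹ = y :=
      (MulAut.conjNormal_apply g y).symm.trans (congrArg Subtype.val (hy g))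
    exact mul_inv_eq_iff_eq_mul.mp h2
  obtain ⟨c, hc, rfl⟩ := hyC
  set B := A ⊔ Subgroup.zpowers c with hB
  have hBn : B.Normal := by
    refine ⟨fun b hb g => ?_⟩
    have hle : B ≤ B.comap (MulAut.conj g).toMonoidHom := by
      refine sup_le (fun a ha => Subgroup.mem_sup_left (hAn.conj_mem a ha g))
        (Subgroup.zpowers_le.mpr ?_)
      show g * c * g⁻¹ ∈ B
      have h1 : (g * c * g⁻¹) * c⁻¹ ∈ A := by
        rw [← QuotientGroup.eq_one_iff]
        have h2 : π g * π c = π c * π g := Subgroup.mem_center_iff.mp hyc (π g)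
        show π (g * c * g⁻¹ * c⁻¹) = 1
        rw [map_mul, map_mul, map_mul, map_inv, map_inv, h2]
        group
      have := mul_mem (Subgroup.mem_sup_left (T := Subgroup.zpowers c) h1)
        (Subgroup.mem_sup_right (S := A) (Subgroup.mem_zpowers c))
      rwa [inv_mul_cancel_right] at this
    exact hle hb
  have hBc : IsMulCommutative B := by
    have : B = Subgroup.closure ((A : Set P) ∪ {c}) := by
      rw [Subgroup.closure_union, Subgroup.closure_eq, ← Subgroup.zpowers_eq_closure]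
    rw [this]
    refine Subgroup.isMulCommutative_closure fun x hx y hy => ?_
    rcases hx with hx | rfl <;> rcases hy with hy | rfl
    · exact congrArg Subtype.val (hAc.is_comm.comm ⟨x, hx⟩ ⟨y, hy⟩)
    · exact hc x hx
    · exact (hc y hy).symm
    · rfl
  have := hmax B hBn hBc le_sup_left
  apply hy1
  show π c = 1
  exact (QuotientGroup.eq_one_iff c).mpr (this ▸ Subgroup.mem_sup_right (Subgroup.mem_zpowers c))

/-- The classification of finite `p`-groups all of whose abelian normal subgroups are cyclic. -/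
theorem classify (hP : IsPGroup p P) (hn : AllCyclic P) :
    IsCyclic P ∨ p = 2 ∧ ((∃ n : ℕ, Nonempty (P ≃* QuaternionGroup n)) ∨
      (∃ n : ℕ, 8 ≤ n ∧ Nonempty (P ≃* DihedralGroup n)) ∨ Cfsg.IsQuasiDihedral P) := by
  classical
  obtain ⟨A, ⟨hAn, hAc⟩, hmax⟩ := (Set.toFinite {A : Subgroup P | A.Normal ∧ IsMulCommutative A}).exists_maximalFor
    id _ ⟨⊥, inferInstance, ⟨⟨fun a b => Subsingleton.elim _ _⟩⟩⟩
  have hself' := self_centralizing hP hAn hAc fun B hB hBc hAB => le_antisymm (hmax ⟨hB, hBc⟩ hAB) hAB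
  obtain ⟨⟨a, haA⟩, hgen⟩ := (hn A hAn hAc).exists_generator
  have hAeq : A = Subgroup.zpowers a := by
    refine le_antisymm (fun x hx => ?_) (Subgroup.zpowers_le.mpr haA)
    obtain ⟨j, hj⟩ := hgen ⟨x, hx⟩
    exact ⟨j, congrArg Subtype.val hj⟩
  subst hAeq
  have hself : ∀ x : P, Commute x a → x ∈ Subgroup.zpowers a := fun x hx => hself' x fun b hb => by
    obtain ⟨j, rfl⟩ := Subgroup.mem_zpowers_iff.mp hb
    exact hx.zpow_right j
  by_cases hPA : ∀ x : P, x ∈ Subgroup.zpowers a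
  · exact Or.inl ⟨⟨a, hPA⟩⟩
  push Not at hPA
  obtain ⟨n, hna⟩ : ∃ n, orderOf a = p ^ n := by
    obtain ⟨k, hk⟩ := (IsPGroup.iff_orderOf (p := p)).mp hP a
    exact ⟨k, hk⟩
  have heq : ∀ i j : ℤ, a ^ i = a ^ j ↔ (p : ℤ) ^ n ∣ i - j := fun i j => by
    rw [← orderOf_dvd_sub_iff_zpow_eq_zpow, hna]; push_cast; rfl
  have hone : ∀ i : ℤ, a ^ i = 1 ↔ (p : ℤ) ^ n ∣ i := fun i => by
    simpa using heq i 0
  choose r hr using fun g : P => Subgroup.mem_zpowers_iff.mp
    (hAn.conj_mem a (Subgroup.mem_zpowers a) g)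
  have hr' : ∀ g, g * a * g⁻¹ = a ^ r g := fun g => (hr g).symm
  have hconjz : ∀ g : P, ∀ j : ℤ, g * a ^ j * g⁻¹ = a ^ (r g * j) := fun g j => by
    rw [← conj_zpow, hr' g, ← zpow_mul]
  have hrone : ∀ g, (p : ℤ) ^ n ∣ r g - 1 → g ∈ Subgroup.zpowers a := by
    intro g hg
    apply hself
    have h1 : g * a * g⁻¹ = a := by
      rw [hr' g, (heq _ 1).mpr hg, zpow_one]
    exact mul_inv_eq_iff_eq_mul.mp h1
  have habel : ∀ g h : P, g * h * g⁻¹ * h⁻¹ ∈ Subgroup.zpowers a := by
    intro g h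
    apply hself
    have e1 : ∀ g h : P, (g * h) * a * (g * h)⁻¹ = a ^ (r g * r h) := fun g h => by
      calc (g * h) * a * (g * h)⁻¹ = g * (h * a * h⁻¹) * g⁻¹ := by group
        _ = _ := by rw [hr' h, hconjz]
    have h2 : (g * h) * a * (g * h)⁻¹ = (h * g) * a * (h * g)⁻¹ := by rw [e1, e1, mul_comm]
    have h3 : (g * h * g⁻¹ * h⁻¹) * a * (g * h * g⁻¹ * h⁻¹)⁻¹ = a := by
      calc (g * h * g⁻¹ * h⁻¹) * a * (g * h * g⁻¹ * h⁻¹)⁻¹
          = (g * h) * ((h * g)⁻¹ * a * (h * g)) * (g * h)⁻¹ := by group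
        _ = a := by
          obtain ⟨l, hl⟩ := Subgroup.mem_zpowers_iff.mp
            (hAn.conj_mem a (Subgroup.mem_zpowers a) (h * g)⁻¹)
          rw [inv_inv] at hl
          rw [← hl, ← conj_zpow, h2, conj_zpow, hl]
          group
    exact mul_inv_eq_iff_eq_mul.mp h3
  -- `n ≥ 2`
  have hn2 : 2 ≤ n := by
    by_contra hcon
    obtain ⟨g, hg⟩ := hPA
    apply hg
    rcases (show n = 0 ∨ n = 1 by omega) with rfl | rfl
    · exact hrone g (by simp)
    · apply hrone
      obtain ⟨k, hk⟩ := (IsPGroup.iff_orderOf (p := p)).mp hP g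
      have h1 := conj_pow_zpow (hr' g) (p ^ k)
      rw [← hk, pow_orderOf_eq_one, inv_one, one_mul, mul_one, hk] at h1
      have h2 : (p : ℤ) ^ 1 ∣ r g ^ (p ^ k) - 1 := by
        rw [← heq, zpow_one]; exact h1.symm
      rw [pow_one, ← ZMod.intCast_zmod_eq_zero_iff_dvd] at h2 ⊢
      push_cast at h2 ⊢
      rwa [ZMod.pow_card_pow] at h2
  have hpow : ∀ g : P, g ^ p ∈ Subgroup.zpowers a → (p : ℤ) ^ n ∣ r g ^ p - 1 := by
    intro g hg
    have h1 := conj_pow_zpow (hr' g) p
    obtain ⟨i, hi⟩ := Subgroup.mem_zpowers_iff.mp hg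
    rw [← hi, ((Commute.refl a).zpow_left i).eq, mul_inv_cancel_right] at h1
    rw [← heq, zpow_one]; exact h1.symm
  have hbad : ∀ u : P, u ∉ Subgroup.zpowers a → u ^ p ∈ Subgroup.zpowers a →
      (p = 2 → 3 ≤ n) → (p : ℤ) ^ (n - 1) ∣ r u - 1 → False := by
    intro u hu hup hp3 hd
    obtain ⟨k, hk⟩ := hd
    refine no_bad_extension hn hna hn2 hp3 hAn hself habel hu hup (k := k) ?_
    rw [hr' u, ← hk]
    calc a ^ r u = a ^ (1 + (r u - 1)) := by congr 1; ring
      _ = a * a ^ (r u - 1) := by rw [zpow_add, zpow_one]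
  -- a minimal element outside `A`
  have hexists : ∀ g : P, g ∉ Subgroup.zpowers a →
      ∃ j : ℕ, g ^ p ^ j ∉ Subgroup.zpowers a ∧ (g ^ p ^ j) ^ p ∈ Subgroup.zpowers a := by
    intro g hg
    obtain ⟨k, hk⟩ := (IsPGroup.iff_orderOf (p := p)).mp hP g
    have hex : ∃ j : ℕ, g ^ p ^ j ∈ Subgroup.zpowers a :=
      ⟨k, by rw [← hk, pow_orderOf_eq_one]; exact one_mem _⟩
    have h0 : Nat.find hex ≠ 0 := fun h => hg (by simpa [h] using Nat.find_spec hex)
    refine ⟨Nat.find hex - 1, Nat.find_min hex (by omega), ?_⟩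
    rw [← pow_mul, ← pow_succ, Nat.sub_add_cancel (by omega)]
    exact Nat.find_spec hex
  have hp2 : p = 2 := by
    by_contra hne
    obtain ⟨g, hg⟩ := hPA
    obtain ⟨j, hj1, hj2⟩ := hexists g hg
    exact hbad _ hj1 hj2 (fun h => absurd h hne)
      (dvd_sub_one_of_odd hp.out (hp.out.odd_of_ne_two hne) (by omega) (hpow _ hj2))
  subst hp2
  refine Or.inr ⟨rfl, ?_⟩
  have hsq : ∀ g : P, g ^ 2 ∈ Subgroup.zpowers a → (4 : ℤ) ∣ r g - 1 → g ∈ Subgroup.zpowers a := by
    intro g hg2 hg4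
    rcases (show n = 2 ∨ 3 ≤ n by omega) with rfl | h3
    · exact hrone g (by push_cast; exact hg4)
    · by_contra hg
      exact hbad g hg hg2 (fun _ => h3) (by
        push_cast; exact dvd_sub_one_of_two hn2 hg4 (by simpa using hpow g hg2))
  have h4n : (4 : ℤ) ∣ ((2 : ℕ) : ℤ) ^ n := by
    obtain ⟨m, rfl⟩ : ∃ m, n = m + 2 := ⟨n - 2, by omega⟩
    exact ⟨2 ^ m, by push_cast; ring⟩
  have hodd : ∀ g : P, r g % 2 = 1 := by
    intro g
    by_contra h
    obtain ⟨t, ht⟩ : (2 : ℤ) ∣ r g := Int.dvd_of_emod_eq_zero (by omega)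
    have h1 : g * a ^ ((2 : ℤ) ^ (n - 1)) * g⁻¹ = 1 := by
      rw [hconjz, hone, ht]
      push_cast
      exact ⟨t, by rw [← Nat.sub_add_cancel (show 1 ≤ n by omega), pow_succ, Nat.add_sub_cancel]; ring⟩
    rw [conj_eq_one_iff, hone] at h1
    have h2 : 2 ^ n ∣ 2 ^ (n - 1) := by exact_mod_cast h1
    have := (Nat.pow_dvd_pow_iff_le_right (by norm_num)).mp h2
    omega
  have hrpow : ∀ g : P, ∀ m : ℕ, (4 : ℤ) ∣ r (g ^ m) - r g ^ m := fun g m => by
    refine h4n.trans ((heq _ _).mp ?_)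
    rw [← hr', conj_pow_zpow (hr' g) m]
  have hsq4 : ∀ x : ℤ, x % 2 = 1 → (4 : ℤ) ∣ x ^ 2 - 1 := fun x hx => by
    obtain ⟨t, rfl⟩ : ∃ t, x = 2 * t + 1 := ⟨x / 2, by omega⟩
    exact ⟨t ^ 2 + t, by ring⟩
  -- every square lies in `A`
  have hallsq : ∀ g : P, g ^ 2 ∈ Subgroup.zpowers a := by
    intro g
    by_contra hg
    obtain ⟨j, hj1, hj2⟩ := hexists (g ^ 2) hg
    refine hj1 (hsq _ hj2 ?_)
    rw [← pow_mul, mul_comm, pow_mul]
    have e := hrpow (g ^ 2 ^ j) 2
    have e' := hsq4 _ (hodd (g ^ 2 ^ j))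
    have := dvd_add e e'
    simpa using this
  have h3 : ∀ g, g ∉ Subgroup.zpowers a → r g % 4 = 3 := by
    intro g hg
    by_contra h
    apply hg (hsq g (hallsq g) ?_)
    have := hodd g
    omega
  obtain ⟨u, hu⟩ := hPA
  have hcoset : ∀ g, g ∉ Subgroup.zpowers a → u⁻¹ * g ∈ Subgroup.zpowers a := by
    intro g hg
    refine hsq _ (hallsq _) ?_
    have e : (4 : ℤ) ∣ r (u⁻¹ * g) * r u - r g := by
      refine h4n.trans ((heq _ _).mp ?_)
      rw [mul_comm, ← hconjz, ← hr', ← hr']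
      group
    have h1 := h3 u hu
    have h2 := h3 g hg
    obtain ⟨t, ht⟩ := e
    obtain ⟨w, hw⟩ : ∃ w, r u = 4 * w + 3 := ⟨r u / 4, by omega⟩
    obtain ⟨w', hw'⟩ : ∃ w, r g = 4 * w + 3 := ⟨r g / 4, by omega⟩
    rw [hw, hw'] at ht
    exact ⟨r (u⁻¹ * g) * (w + 1) - w' - t - 1, by linear_combination (-1 : ℤ) * ht⟩
  have hidx : (Subgroup.zpowers a).index = 2 := by
    rw [Subgroup.index_eq_two_iff]
    refine ⟨u, fun b => ?_⟩
    by_cases hb : b ∈ Subgroup.zpowers a
    · refine Or.inr ⟨hb, fun h => hu ?_⟩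
      simpa using mul_mem (inv_mem hb) h
    · refine Or.inl ⟨?_, hb⟩
      have hbu : u * (u * (u⁻¹ * (b⁻¹))) = u * b⁻¹ := by group
      have hbi : b⁻¹ ∉ Subgroup.zpowers a := fun h => hb (by simpa using inv_mem h)
      have h1 := mul_mem (hallsq u) (hcoset b⁻¹ hbi)
      have h2 : u * b⁻¹ ∈ Subgroup.zpowers a := by
        rw [sq] at h1; rw [← hbu]; simpa [mul_assoc] using h1
      have := mul_mem (inv_mem h2) (hallsq u)
      rwa [show (u * b⁻¹)⁻¹ * u ^ 2 = b * u by rw [sq]; group] at this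
  have hcard : Nat.card P = 2 ^ (n + 1) := by
    rw [← Subgroup.card_mul_index (Subgroup.zpowers a), hidx, Nat.card_zpowers, hna, pow_succ]
  obtain ⟨i, hi⟩ := Subgroup.mem_zpowers_iff.mp (hallsq u)
  obtain ⟨n', rfl⟩ : ∃ n', n = n' + 2 := ⟨n - 2, by omega⟩
  have hru : (2 : ℤ) ^ (n' + 2) ∣ r u ^ 2 - 1 := by simpa using hpow u (hallsq u)
  obtain ⟨t, ht⟩ : ∃ t : ℤ, r u = 4 * t + 3 := ⟨r u / 4, by have := h3 u hu; omega⟩
  have hplus : (2 : ℤ) ^ (n' + 1) ∣ r u + 1 := by
    have h : (2 : ℤ) ^ (n' + 2) ∣ 2 * ((2 * t + 1) * (r u + 1)) := by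
      convert hru using 1; rw [ht]; ring
    rw [pow_succ', mul_dvd_mul_iff_left (by norm_num : (2 : ℤ) ≠ 0)] at h
    exact IsCoprime.dvd_of_dvd_mul_left (IsCoprime.pow_left ⟨-t, 1, by ring⟩) h
  have hi2 : (2 : ℤ) ^ (n' + 1) ∣ i := by
    have h : u * a ^ i * u⁻¹ = a ^ i := by rw [hi]; group
    rw [hconjz, heq, show r u * i - i = 2 * ((2 * t + 1) * i) by rw [ht]; ring] at h
    push_cast at h
    rw [pow_succ', mul_dvd_mul_iff_left (by norm_num : (2 : ℤ) ≠ 0)] at h
    exact IsCoprime.dvd_of_dvd_mul_left (IsCoprime.pow_left ⟨-t, 1, by ring⟩) h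
  obtain ⟨e, he⟩ := hi2
  obtain ⟨c, hc⟩ := hplus
  have h2n : ((2 : ℕ) : ℤ) ^ (n' + 2) = 2 * 2 ^ (n' + 1) := by push_cast; ring
  rcases Int.even_or_odd' c with ⟨c', rfl | rfl⟩
  · -- `u` inverts `a`
    have hinv : u * a * u⁻¹ = a⁻¹ := by
      rw [hr', ← zpow_neg_one, heq, h2n]
      exact ⟨c', by linear_combination hc⟩
    rcases Int.even_or_odd' e with ⟨e', rfl | rfl⟩
    · -- dihedral
      have hu2 : u ^ 2 = 1 := by rw [← hi, hone, h2n, he]; exact ⟨e', by ring⟩
      have hua : orderOf u = 2 := orderOf_eq_prime hu2 fun h => hu (h ▸ one_mem _)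
      have hx : (u * a) * (u * a) = 1 := by
        calc (u * a) * (u * a) = (u * a * u⁻¹) * (u ^ 2) * a := by rw [sq]; group
          _ = 1 := by rw [hinv, hu2]; group
      have hxo : orderOf (u * a) = 2 := orderOf_eq_prime (by rw [sq, hx]) fun h => hu (by
        rw [eq_inv_of_mul_eq_one_left h]; exact inv_mem (Subgroup.mem_zpowers a))
      have hne : u ≠ u * a := fun h => by
        have : a = 1 := by simpa using h
        rw [this, orderOf_one] at hna
        exact absurd hna (Nat.one_lt_two_pow (by omega)).ne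
      have hprod : u * (u * a) = a := by rw [← mul_assoc, ← sq, hu2, one_mul]
      have htop : Subgroup.closure ({u, u * a} : Set P) = ⊤ := by
        rw [eq_top_iff]
        intro g _
        have hu' := Subgroup.subset_closure (k := ({u, u * a} : Set P)) (Set.mem_insert u _)
        have ha' : a ∈ Subgroup.closure ({u, u * a} : Set P) := by
          have := mul_mem hu' (Subgroup.subset_closure (k := ({u, u * a} : Set P))
            (Set.mem_insert_of_mem _ rfl))
          rwa [hprod] at this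
        by_cases hg : g ∈ Subgroup.zpowers a
        · exact (Subgroup.zpowers_le.mpr ha') hg
        · simpa using mul_mem hu' ((Subgroup.zpowers_le.mpr ha') (hcoset g hg))
      rcases (show n' = 0 ∨ 1 ≤ n' by omega) with rfl | h1
      · exfalso
        set z := a ^ (2 : ℤ)
        have hzu : Commute u z := by
          refine mul_inv_eq_iff_eq_mul.mp ?_
          rw [← conj_zpow, hinv, inv_zpow, ← zpow_neg, heq]
          exact ⟨-1, by norm_num⟩
        refine no_elementary (p := 2) hn (z := z) (v := u) ?_ ?_ hu2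
          (fun h => hu (Subgroup.zpowers_le.mpr (Subgroup.zpow_mem _ (Subgroup.mem_zpowers a) _) h))
          hzu.symm ?_ ?_
        · rw [← zpow_natCast, ← zpow_mul, hone]; exact ⟨1, by norm_num⟩
        · intro h; rw [hone] at h; norm_num at h
        · intro g
          refine Subgroup.mem_zpowers_iff.mpr ⟨r g, ?_⟩
          rw [← zpow_mul, hconjz, mul_comm]
        · intro g
          have key : u * a ^ (2 : ℤ) = a ^ (-2 : ℤ) * u := by
            rw [show (-2 : ℤ) = -1 * 2 by norm_num, zpow_mul, zpow_neg_one, ← hinv, conj_zpow]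
            group
          obtain ⟨l, hl⟩ : ∃ l : ℤ, g * u * g⁻¹ = z ^ l * u := by
            by_cases hg : g ∈ Subgroup.zpowers a
            · obtain ⟨j, rfl⟩ := Subgroup.mem_zpowers_iff.mp hg
              refine ⟨j, ?_⟩
              have h1 : u * a ^ (-j) = a ^ j * u := by
                have := conj_zpow (i := -j) (a := u) (b := a)
                rw [hinv, inv_zpow, zpow_neg, inv_inv] at this
                rw [zpow_neg]
                exact eq_mul_of_mul_inv_eq this.symm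
              rw [← zpow_mul, two_mul, zpow_add, ← zpow_neg, mul_assoc, h1, mul_assoc]
            · obtain ⟨j, hj⟩ := Subgroup.mem_zpowers_iff.mp (hcoset g hg)
              refine ⟨-j, ?_⟩
              have hgj : g = u * a ^ j := by rw [hj]; group
              have h1 : u * a ^ (j + j) = a ^ (-(j + j)) * u := by
                refine eq_mul_of_mul_inv_eq ?_
                rw [← conj_zpow, hinv, inv_zpow, zpow_neg]
              have h2 : a ^ j * u = u * a ^ (-j) := by
                refine (eq_mul_of_mul_inv_eq ?_).symm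
                rw [← conj_zpow, hinv, inv_zpow, zpow_neg, inv_inv]
              rw [hgj, ← zpow_mul, show (2 : ℤ) * -j = -(j + j) by ring, mul_inv_rev, ← zpow_neg,
                show u⁻¹ = u from inv_eq_of_mul_eq_one_left (by rw [← sq, hu2])]
              calc u * a ^ j * u * (a ^ (-j) * u) = u * (a ^ j * u) * a ^ (-j) * u := by group
                _ = u * (u * a ^ (-j)) * a ^ (-j) * u := by rw [h2]
                _ = _ := by rw [← mul_assoc u, ← sq, hu2]; group
          rw [hl]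
          exact mul_mem (Subgroup.mem_sup_left (Subgroup.zpow_mem _ (Subgroup.mem_zpowers z) l))
            (Subgroup.mem_sup_right (Subgroup.mem_zpowers u))
      · refine Or.inr (Or.inl ⟨2 ^ (n' + 2), ?_, ?_⟩)
        · exact le_trans (by norm_num) (Nat.pow_le_pow_right (show 1 ≤ 2 by norm_num) (show 3 ≤ n' + 2 by omega))
        · have e1 := CfsgLib.Small.closurePairEquivDihedral hua hxo hne
          rw [hprod, hna] at e1
          exact ⟨(Subgroup.topEquiv.symm.trans (MulEquiv.subgroupCongr htop.symm)).trans e1⟩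
    · -- quaternion
      refine Or.inl ⟨2 ^ (n' + 1), ?_⟩
      have hu2 : u ^ 2 = a ^ ((2 : ℤ) ^ (n' + 1)) := by
        rw [← hi, heq, h2n, he]; exact ⟨e', by ring⟩
      have hN : ((2 * 2 ^ (n' + 1) : ℕ) : ℤ) = ((2 : ℕ) : ℤ) ^ (n' + 2) := by push_cast; ring
      have hconju : ∀ j : ℤ, a ^ j * u = u * a ^ (-j) := fun j => by
        refine (eq_mul_of_mul_inv_eq ?_).symm
        rw [← conj_zpow, hinv, inv_zpow, zpow_neg, inv_inv]
      let f : QuaternionGroup (2 ^ (n' + 1)) → P := fun q =>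
        match q with
        | .a j => a ^ (j.cast : ℤ)
        | .xa j => u * a ^ (j.cast : ℤ)
      have hcast : ∀ x : ℤ, ∀ y : ZMod (2 * 2 ^ (n' + 1)), (x : ZMod (2 * 2 ^ (n' + 1))) = y →
          a ^ (y.cast : ℤ) = a ^ x := by
        intro x y hxy
        rw [heq, ← hN, ← ZMod.intCast_zmod_eq_zero_iff_dvd]
        push_cast
        simp [hxy]
      have hmul : ∀ x y, f (x * y) = f x * f y := by
        rintro (x | x) (y | y)
        · show a ^ ((x + y).cast : ℤ) = a ^ (x.cast : ℤ) * a ^ (y.cast : ℤ)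
          rw [← zpow_add]
          exact hcast _ _ (by push_cast [ZMod.intCast_zmod_cast]; ring)
        · show u * a ^ ((y - x).cast : ℤ) = a ^ (x.cast : ℤ) * (u * a ^ (y.cast : ℤ))
          rw [← mul_assoc, hconju, mul_assoc, ← zpow_add]
          exact congrArg (u * ·) (hcast _ _ (by push_cast [ZMod.intCast_zmod_cast]; ring))
        · show u * a ^ ((x + y).cast : ℤ) = u * a ^ (x.cast : ℤ) * a ^ (y.cast : ℤ)
          rw [mul_assoc, ← zpow_add]
          exact congrArg (u * ·) (hcast _ _ (by push_cast [ZMod.intCast_zmod_cast]; ring))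
        · show a ^ (((2 ^ (n' + 1) : ℕ) + y - x : ZMod (2 * 2 ^ (n' + 1))).cast : ℤ) =
            u * a ^ (x.cast : ℤ) * (u * a ^ (y.cast : ℤ))
          rw [mul_assoc u, ← mul_assoc (a ^ (x.cast : ℤ)), hconju, mul_assoc u (a ^ _), ← zpow_add,
            ← mul_assoc, ← sq, hu2, ← zpow_add]
          exact hcast _ _ (by push_cast [ZMod.intCast_zmod_cast]; ring)
      let φ : QuaternionGroup (2 ^ (n' + 1)) →* P := MonoidHom.mk' f hmul
      have hsurj : Function.Surjective φ := by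
        intro g
        have hA' : ∀ j : ℤ, ∃ q, φ q = a ^ j := fun j =>
          ⟨QuaternionGroup.a (j : ZMod _), hcast j _ rfl⟩
        by_cases hg : g ∈ Subgroup.zpowers a
        · obtain ⟨j, rfl⟩ := Subgroup.mem_zpowers_iff.mp hg
          exact hA' j
        · obtain ⟨j, hj⟩ := Subgroup.mem_zpowers_iff.mp (hcoset g hg)
          refine ⟨QuaternionGroup.xa (j : ZMod _), ?_⟩
          show u * a ^ (((j : ZMod (2 * 2 ^ (n' + 1)))).cast : ℤ) = g
          rw [hcast j _ rfl, hj, mul_inv_cancel_left]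
      have hbij : Function.Bijective φ := by
        refine Function.Surjective.bijective_of_nat_card_le hsurj (le_of_eq ?_)
        rw [hcard, Nat.card_eq_fintype_card, QuaternionGroup.card]
        ring
      exact ⟨(MulEquiv.ofBijective φ hbij).symm⟩
  · -- quasi-dihedral
    obtain ⟨n'', rfl⟩ : ∃ m, n' = m + 1 := by
      refine ⟨n' - 1, ?_⟩
      rcases n' with _ | m
      · rw [ht] at hc; norm_num at hc; omega
      · omega
    refine Or.inr (Or.inr ⟨n'' + 3, by omega, hcard, a, ?_⟩)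
    have hru' : u * a * u⁻¹ = a ^ ((2 : ℤ) ^ (n'' + 2) - 1) := by
      rw [hr', heq, h2n]
      exact ⟨c', by linear_combination hc⟩
    have hexp : a ^ (2 ^ (n'' + 3 - 1) - 1) = a ^ ((2 : ℤ) ^ (n'' + 2) - 1) := by
      rw [← zpow_natCast, Nat.cast_sub Nat.one_le_two_pow]
      norm_num
    obtain ⟨y, hyA, hy2, hyc⟩ : ∃ y, y ∉ Subgroup.zpowers a ∧ y ^ 2 = 1 ∧
        y * a * y⁻¹ = a ^ ((2 : ℤ) ^ (n'' + 2) - 1) := by
      rcases Int.even_or_odd' e with ⟨e', rfl | rfl⟩
      · exact ⟨u, hu, by rw [← hi, hone, h2n, he]; exact ⟨e', by ring⟩, hru'⟩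
      · refine ⟨a * u, fun h => hu (by simpa using mul_mem (inv_mem (Subgroup.mem_zpowers a)) h), ?_, ?_⟩
        · calc (a * u) ^ 2 = a * (u * a * u⁻¹) * u ^ 2 := by rw [sq, sq]; group
            _ = a ^ (1 + r u + i) := by
                rw [hr', ← hi, zpow_add, zpow_add, zpow_one]
            _ = 1 := by
                rw [hone, h2n, he]
                exact ⟨c' + e' + 1, by linear_combination hc⟩
        · calc (a * u) * a * (a * u)⁻¹ = a * (u * a * u⁻¹) * a⁻¹ := by group
            _ = _ := by rw [hru']; group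
    refine ⟨y, hna, orderOf_eq_prime hy2 fun h => hyA (h ▸ one_mem _), ?_⟩
    rw [hexp]
    exact hyc

end CfsgLib.Classification.CyclicNormal
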