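import Cfsg.Prelude.Def_Transfer
import Mathlib

/-!
# Groups whose commutator subgroup is central of order two
-/

set_option autoImplicit false

namespace CfsgLib.Classification

open scoped commutatorElement

variable {Q : Type*} [Group Q]

theorem eq_or_eq_one_of_mem_of_card_two {Z : Subgroup Q} (hZ : Nat.card Z = 2) {a b : Q}
    (ha : a ∈ Z) (hb : b ∈ Z) (ha1 : a ≠ 1) : b = 1 ∨ b = a := by
  have h := (Nat.card_eq_two_iff' (⟨1, Z.one_mem⟩ : Z)).mp hZ
  by_contra hcon
  push Not at hcon
  exact hcon.2 (congrArg Subtype.val (h.unique (y₁ := ⟨b, hb⟩) (y₂ := ⟨a, ha⟩)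
    (fun e => hcon.1 (congrArg Subtype.val e)) (fun e => ha1 (congrArg Subtype.val e))))

theorem mul_self_of_mem_of_card_two {Z : Subgroup Q} (hZ : Nat.card Z = 2) {a : Q} (ha : a ∈ Z) :
    a * a = 1 := by
  by_cases ha1 : a = 1
  · simp [ha1]
  · rcases eq_or_eq_one_of_mem_of_card_two hZ ha (Z.mul_mem ha ha) ha1 with h | h
    · exact h
    · exact absurd (mul_left_cancel (h.trans (mul_one a).symm)) ha1

/-- If all commutators lie in a central subgroup of order two then squares are central. -/
theorem sq_mem_center {Z : Subgroup Q} (hZc : Z ≤ Subgroup.center Q) (hZ : Nat.card Z = 2)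
    (hcomm : ∀ a b : Q, ⁅a, b⁆ ∈ Z) (a : Q) : a * a ∈ Subgroup.center Q := by
  rw [Subgroup.mem_center_iff]
  intro b
  have hc : ∀ g : Q, g * ⁅a, b⁆ = ⁅a, b⁆ * g := fun g => Subgroup.mem_center_iff.mp (hZc (hcomm a b)) g
  have hab : a * b = ⁅a, b⁆ * b * a := by simp [commutatorElement_def, mul_assoc]
  have h2 : a * a * b = b * (a * a) := by
    calc a * a * b = a * (a * b) := mul_assoc _ _ _
      _ = a * (⁅a, b⁆ * b * a) := by rw [← hab]
      _ = ⁅a, b⁆ * (a * b) * a := by rw [← mul_assoc, ← mul_assoc, hc a]; group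
      _ = ⁅a, b⁆ * (⁅a, b⁆ * b * a) * a := by rw [← hab]
      _ = (⁅a, b⁆ * ⁅a, b⁆) * (b * (a * a)) := by group
      _ = b * (a * a) := by rw [mul_self_of_mem_of_card_two hZ (hcomm a b), one_mul]
  exact h2.symm

/-- If the centre has order two and contains all commutators, then every subgroup `H` containing
the centre satisfies `|Q| |Z| ≤ |H| |C(H)|`. -/
theorem card_mul_le_card_mul_centralizer [Finite Q] (hZ : Nat.card (Subgroup.center Q) = 2)
    (hcomm : ∀ a b : Q, ⁅a, b⁆ ∈ Subgroup.center Q) (H : Subgroup Q)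
    (hH : Subgroup.center Q ≤ H) :
    Nat.card Q * 2 ≤ Nat.card H * Nat.card (Subgroup.centralizer (H : Set Q)) := by
  let S : Set (Subgroup Q) := {K | Subgroup.center Q ≤ K ∧ K ≤ H ∧
    Nat.card Q * 2 ≤ Nat.card K * Nat.card (Subgroup.centralizer (K : Set Q))}
  have hne : S.Nonempty := ⟨Subgroup.center Q, le_rfl, hH, by
    rw [hZ, Subgroup.centralizer_eq_top_iff_subset.mpr le_rfl, Subgroup.card_top, mul_comm]⟩
  obtain ⟨K, ⟨hKZ, hKH, hK⟩, hmax⟩ := (Set.toFinite S).exists_maximalFor id S hne
  by_cases hKH' : K = H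
  · exact hKH' ▸ hK
  exfalso
  obtain ⟨h, hh, hhK⟩ := SetLike.exists_of_lt (lt_of_le_of_ne hKH hKH')
  let C := Subgroup.centralizer (K : Set Q)
  let f : C →* Subgroup.center Q :=
    MonoidHom.mk' (fun c => ⟨⁅(c : Q), h⁆, hcomm _ _⟩) fun c d => Subtype.ext (by
      show ⁅(c : Q) * d, h⁆ = ⁅(c : Q), h⁆ * ⁅(d : Q), h⁆
      have hd := Subgroup.mem_center_iff.mp (hcomm (d : Q) h)
      calc ⁅(c : Q) * d, h⁆ = c * ⁅(d : Q), h⁆ * (c : Q)⁻¹ * ⁅(c : Q), h⁆ := by
            simp [commutatorElement_def, mul_assoc]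
        _ = ⁅(d : Q), h⁆ * ⁅(c : Q), h⁆ := by rw [hd c, mul_inv_cancel_right]
        _ = _ := (hd _).symm)
  let K' := K ⊔ Subgroup.zpowers h
  have hK'H : K' ≤ H := sup_le hKH (Subgroup.zpowers_le.mpr hh)
  have hker : ∀ c : C, f c = 1 → (c : Q) ∈ Subgroup.centralizer (K' : Set Q) := by
    intro c hc
    have h2 : K' ≤ Subgroup.centralizer ({(c : Q)} : Set Q) := by
      refine sup_le ?_ (Subgroup.zpowers_le.mpr ?_)
      · exact fun k hk => Subgroup.mem_centralizer_singleton_iff.mpr (c.2 k hk)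
      · exact Subgroup.mem_centralizer_singleton_iff.mpr
          (commutatorElement_eq_one_iff_mul_comm.mp (congrArg Subtype.val hc)).symm
    exact fun x hx => Subgroup.mem_centralizer_singleton_iff.mp (h2 hx)
  have h1 : Nat.card C ≤ 2 * Nat.card (Subgroup.centralizer (K' : Set Q)) := by
    have e := Subgroup.card_mul_index f.ker
    rw [Subgroup.index_ker] at e
    rw [← e, mul_comm]
    refine Nat.mul_le_mul ?_ (Nat.card_le_card_of_injective
      (fun c : f.ker => (⟨(c : C), hker c.1 (MonoidHom.mem_ker.mp c.2)⟩ :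
        Subgroup.centralizer (K' : Set Q))) ?_)
    · exact (Subgroup.card_le_card_group f.range).trans hZ.le
    · exact fun a b hab => Subtype.ext (Subtype.ext (congrArg Subtype.val hab :))
  have h2 : 2 * Nat.card K ≤ Nat.card K' := by
    obtain ⟨k, hk⟩ := Subgroup.card_dvd_of_le (le_sup_left : K ≤ K')
    have hlt : Nat.card K < Nat.card K' := by
      refine lt_of_le_of_ne (Subgroup.card_le_of_le le_sup_left) fun e => hhK ?_
      rw [Subgroup.eq_of_le_of_card_ge (le_sup_left : K ≤ K') e.ge]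
      exact Subgroup.mem_sup_right (Subgroup.mem_zpowers h)
    rw [hk] at hlt ⊢
    rw [mul_comm 2]
    refine Nat.mul_le_mul_left _ ?_
    rcases k with _ | _ | k <;> simp_all
  have : K' ∈ S := ⟨hKZ.trans le_sup_left, hK'H, hK.trans (by
    calc Nat.card K * Nat.card C ≤ Nat.card K * (2 * Nat.card (Subgroup.centralizer (K' : Set Q))) :=
          Nat.mul_le_mul_left _ h1
      _ = (2 * Nat.card K) * Nat.card (Subgroup.centralizer (K' : Set Q)) := by ring
      _ ≤ _ := Nat.mul_le_mul_right _ h2)⟩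
  have hle : K' ≤ K := hmax this le_sup_left
  exact hhK (hle (Subgroup.mem_sup_right (Subgroup.mem_zpowers h)))

/-- An involutory automorphism fixing a subgroup of index at most two pointwise is inner. -/
theorem exists_inner_of_fixed_index_le_two [Finite Q] (hZ : Nat.card (Subgroup.center Q) = 2)
    (hcomm : ∀ a b : Q, ⁅a, b⁆ ∈ Subgroup.center Q) (α : MulAut Q) (hα : ∀ x, α (α x) = x)
    (M : Subgroup Q) (hM : ∀ m ∈ M, α m = m) (hidx : M.index ≤ 2) :
    ∃ y : Q, ∀ x, α x = y * x * y⁻¹ := by
  classical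
  by_cases hall : ∀ x, α x = x
  · exact ⟨1, fun x => by simp [hall x]⟩
  push Not at hall
  obtain ⟨x, hx⟩ := hall
  have hxM : x ∉ M := fun h => hx (hM x h)
  have hi : M.index = 2 := by
    have h0 : M.index ≠ 0 := Subgroup.index_ne_zero_of_finite
    have h1 : M.index ≠ 1 := fun h => hxM (by rw [Subgroup.index_eq_one.mp h]; trivial)
    omega
  have hcases : ∀ w : Q, w ∈ M ∨ x⁻¹ * w ∈ M := by
    intro w
    by_cases hw : w ∈ M
    · exact Or.inl hw
    · exact Or.inr ((Subgroup.mul_mem_iff_of_index_two hi).mpr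
        (by simp [inv_mem_iff, hxM, hw]))
  have hcc : ∀ a b : Q, a * b * a⁻¹ * b⁻¹ ∈ Subgroup.center Q := fun a b => by
    simpa [commutatorElement_def] using hcomm a b
  have hα1 : ∀ e ∈ Subgroup.center Q, α e = e := by
    intro e he
    by_cases he1 : e = 1
    · simp [he1]
    have hmem : α e ∈ Subgroup.center Q := by
      rw [Subgroup.mem_center_iff]
      intro g
      obtain ⟨g, rfl⟩ := α.surjective g
      rw [← map_mul, ← map_mul, Subgroup.mem_center_iff.mp he g]
    rcases eq_or_eq_one_of_mem_of_card_two hZ he hmem he1 with h | h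
    · exact absurd (α.injective (h.trans (map_one α).symm)) he1
    · exact h
  set c := x⁻¹ * α x with hc
  have hxc : α x = x * c := by rw [hc, mul_inv_cancel_left]
  have hcC : ∀ m ∈ M, c * m = m * c := by
    intro m hm
    have hm' : x * m * x⁻¹ ∈ M :=
      (Subgroup.normal_of_index_eq_two hi).conj_mem m hm x
    have h := hM _ hm'
    rw [map_mul, map_mul, map_inv, hM m hm, hxc] at h
    calc c * m = x⁻¹ * (x * c * m * (x * c)⁻¹) * (x * c) := by group
      _ = m * c := by rw [h]; group
  have hxx : α (x * x) = x * x :=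
    hα1 _ (sq_mem_center le_rfl hZ hcomm x)
  have hcxc : c * x * c = x := by
    rw [map_mul, hxc] at hxx
    apply mul_left_cancel (a := x)
    calc x * (c * x * c) = x * c * (x * c) := by group
      _ = x * x := hxx
  have hcM : c ∈ M := by
    by_contra hcM
    have hcz : c ∈ Subgroup.center Q := by
      have h' : ∀ w : Q, w ∈ M ∨ c⁻¹ * w ∈ M := by
        intro w
        by_cases hw : w ∈ M
        · exact Or.inl hw
        · exact Or.inr ((Subgroup.mul_mem_iff_of_index_two hi).mpr (by simp [inv_mem_iff, hcM, hw]))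
      rw [Subgroup.mem_center_iff]
      intro w
      rcases h' w with hw | hw
      · exact (hcC w hw).symm
      · have h2 := hcC _ hw
        calc w * c = c * ((c⁻¹ * w) * c) := by group
          _ = c * (c * (c⁻¹ * w)) := by rw [h2]
          _ = c * w := by group
    have h1 := hα1 c hcz
    have h2 : α c = c⁻¹ := by
      rw [hc, map_mul, map_inv, hα, mul_inv_rev, inv_inv]
    -- now `c` is fixed, hence `α x` determines nothing outside `M`
    have hxn : x * c ∉ M := by rw [← hxc]; exact fun h => hxM (by rw [← hα x]; rwa [hM _ h])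
    exact hxn ((Subgroup.mul_mem_iff_of_index_two hi).mpr (by simp [hxM, hcM]))
  have hcc2 : c * c = 1 := by
    have h2 : α c = c⁻¹ := by
      rw [hc, map_mul, map_inv, hα, mul_inv_rev, inv_inv]
    rw [hM c hcM] at h2
    nth_rewrite 2 [h2]
    exact mul_inv_cancel c
  have hci : c⁻¹ = c := inv_eq_of_mul_eq_one_left hcc2
  have hcx : x * c = c * x := by
    calc x * c = c * x * c * c := by rw [hcxc]
      _ = c * x := by rw [mul_assoc _ c c, hcc2, mul_one]
  have hcz : c ∈ Subgroup.center Q := by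
    rw [Subgroup.mem_center_iff]
    intro w
    rcases hcases w with hw | hw
    · exact (hcC w hw).symm
    · calc w * c = x * ((x⁻¹ * w) * c) := by group
        _ = x * (c * (x⁻¹ * w)) := by rw [hcC _ hw]
        _ = c * w := by rw [← mul_assoc, hcx]; group
  have hc1 : c ≠ 1 := fun h => hx (by rw [hxc, h, mul_one])
  have hZM : Subgroup.center Q ≤ M := fun e he => by
    rcases eq_or_eq_one_of_mem_of_card_two hZ hcz he hc1 with rfl | rfl
    exacts [M.one_mem, hcM]
  obtain ⟨y, hy, hyZ⟩ : ∃ y ∈ Subgroup.centralizer (M : Set Q), y ∉ Subgroup.center Q := by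
    by_contra h
    push Not at h
    have h2 : Nat.card (Subgroup.centralizer (M : Set Q)) ≤ 2 :=
      (Subgroup.card_le_of_le h).trans hZ.le
    have h3 := card_mul_le_card_mul_centralizer hZ hcomm M hZM
    have h4 := Subgroup.card_mul_index M
    rw [hi] at h4
    have h5 : Nat.card M * Nat.card (Subgroup.centralizer (M : Set Q)) ≤ Nat.card M * 2 :=
      Nat.mul_le_mul_left _ h2
    have : 0 < Nat.card M := Nat.card_pos
    omega
  have hyx : y * x * y⁻¹ * x⁻¹ ≠ 1 := by
    intro h
    apply hyZ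
    have h' : y * x = x * y := by
      calc y * x = (y * x * y⁻¹ * x⁻¹) * (x * y) := by group
        _ = x * y := by rw [h, one_mul]
    rw [Subgroup.mem_center_iff]
    intro w
    rcases hcases w with hw | hw
    · exact hy w hw
    · calc w * y = x * ((x⁻¹ * w) * y) := by group
        _ = x * (y * (x⁻¹ * w)) := by rw [hy _ hw]
        _ = y * w := by rw [← mul_assoc, ← h']; group
  have heq : y * x * y⁻¹ * x⁻¹ = c :=
    (eq_or_eq_one_of_mem_of_card_two hZ hcz (hcc y x) hc1).resolve_left hyx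
  refine ⟨y, fun w => ?_⟩
  rcases hcases w with hw | hw
  · rw [hM w hw, ← hy w hw, mul_inv_cancel_right]
  · calc α w = α x * α (x⁻¹ * w) := by rw [← map_mul, mul_inv_cancel_left]
      _ = c * x * (x⁻¹ * w) := by rw [hxc, hM _ hw, hcx]
      _ = (y * x * y⁻¹) * (y * (x⁻¹ * w) * y⁻¹) := by
          rw [← hy _ hw, mul_inv_cancel_right, ← heq]; group
      _ = y * w * y⁻¹ := by group

end CfsgLib.Classification
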