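import Cfsg.Prelude.Def_Local

/-!
# Elementary facts on the generalized Fitting subgroup used by the GF(2)-type statements
-/

set_option autoImplicit false

namespace CfsgLib.Classification

open Cfsg

/-- Quasisimplicity is invariant under isomorphism. -/
theorem quasisimple_of_mulEquiv {A B : Type*} [Group A] [Group B] (e : A ≃* B)
    (h : IsQuasisimple A) : IsQuasisimple B := by
  obtain ⟨hperf, hsimp⟩ := h
  have := hperf
  refine ⟨Group.IsPerfect.ofSurjective (f := e.toMonoidHom) e.surjective, ?_⟩
  have hmap : (Subgroup.center A).map e.toMonoidHom = Subgroup.center B := by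
    ext x
    obtain ⟨y, rfl⟩ := e.surjective x
    simp only [Subgroup.mem_map, MulEquiv.coe_toMonoidHom, EmbeddingLike.apply_eq_iff_eq,
      exists_eq_right, Subgroup.mem_center_iff]
    constructor
    · intro h g
      obtain ⟨z, rfl⟩ := e.surjective g
      rw [← map_mul, ← map_mul, h z]
    · intro h g
      exact e.injective (by rw [map_mul, map_mul, h (e g)])
  exact (QuotientGroup.congr _ _ e hmap).symm.isSimpleGroup

/-- An automorphism maps components to components. -/
theorem isComponent_map {G : Type*} [Group G] {K : Subgroup G} (e : MulAut G) (h : IsComponent K) :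
    IsComponent (K.map e.toMonoidHom) :=
  ⟨Subgroup.IsSubnormal.map e.surjective h.1,
    quasisimple_of_mulEquiv (K.equivMapOfInjective e.toMonoidHom e.injective) h.2⟩

/-- The layer is normal. -/
theorem layer_normal' (G : Type*) [Group G] : (layer G).Normal := by
  refine Subgroup.normal_iff_map_conj_eq.mpr fun g => le_antisymm ?_ ?_
  · rw [Subgroup.map_le_iff_le_comap]
    refine sSup_le fun K hK => ?_
    rw [← Subgroup.map_le_iff_le_comap]
    exact le_sSup (s := {K : Subgroup G | IsComponent K}) (isComponent_map (MulAut.conj g) hK)
  · refine sSup_le fun K hK => ?_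
    have h1 : K.map (MulAut.conj g⁻¹).toMonoidHom ≤ layer G :=
      le_sSup (s := {K : Subgroup G | IsComponent K}) (isComponent_map (MulAut.conj g⁻¹) hK)
    intro x hx
    exact ⟨g⁻¹ * x * g, h1 ⟨x, hx, by simp⟩, by simp [mul_assoc]⟩

/-- The generalized Fitting subgroup is normal. -/
theorem gfs_normal (G : Type*) [Group G] : (generalizedFittingSubgroup G).Normal := by
  have := layer_normal' G
  have : (fittingSubgroup G).Normal := Subgroup.sSup_normal _ (fun _ h => h.1)
  exact Subgroup.sup_normal _ _

/-- A central subgroup of `G` lies in the generalized Fitting subgroup. -/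
theorem center_le_gfs (G : Type*) [Group G] :
    Subgroup.center G ≤ generalizedFittingSubgroup G :=
  le_sup_of_le_right (le_sSup (s := {N : Subgroup G | N.Normal ∧ Group.IsNilpotent N})
    ⟨inferInstance, @CommGroup.isNilpotent _
      { (inferInstance : Group (Subgroup.center G)) with
        mul_comm := fun a b => Subtype.ext (Subgroup.mem_center_iff.mp b.2 a) }⟩)

end CfsgLib.Classification
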