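import Cfsg.Agent.Classification.Extraspecial
import Mathlib

/-!
# Conjugates of a central involution inside a symplectic 2-group of exponent four

If `z` is an involution whose centralizer has a self-centralizing normal 2-subgroup `Q` with
commutators in `⟨z⟩`, and `z' = g z g⁻¹` is another conjugate lying in `Q`, then `z ∈ g Q g⁻¹`.
-/

set_option autoImplicit false

namespace CfsgLib.Classification

open scoped commutatorElement

variable {G : Type*} [Group G]

/-- `Q` is a normal self-centralizing subgroup of `C(z)`, of exponent dividing four, with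
commutators in `⟨z⟩` and with `z` as its only central involution. -/
structure SymData (z : G) (Q : Subgroup G) : Prop where
  sq1 : z * z = 1
  ne : z ≠ 1
  mem : z ∈ Q
  cz : ∀ q ∈ Q, q * z = z * q
  comm : ∀ a ∈ Q, ∀ b ∈ Q, ⁅a, b⁆ = 1 ∨ ⁅a, b⁆ = z
  four : ∀ q ∈ Q, q ^ 4 = 1
  inv : ∀ c ∈ Q, (∀ q ∈ Q, c * q = q * c) → c * c = 1 → c = 1 ∨ c = z
  norm : ∀ h : G, h * z = z * h → ∀ q ∈ Q, h * q * h⁻¹ ∈ Q
  self : ∀ h : G, h * z = z * h → (∀ q ∈ Q, h * q = q * h) → h ∈ Q

/-- Transport of `SymData` under conjugation. -/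
theorem SymData.conj {z : G} {Q : Subgroup G} (h : SymData z Q) (g : G) :
    SymData (g * z * g⁻¹) (Q.map (MulAut.conj g).toMonoidHom) := by
  have hmem : ∀ {x}, x ∈ Q.map (MulAut.conj g).toMonoidHom → ∃ y ∈ Q, g * y * g⁻¹ = x :=
    fun hx => by obtain ⟨y, hy, rfl⟩ := hx; exact ⟨y, hy, rfl⟩
  have hc : ∀ {a b : G}, g * a * g⁻¹ * (g * b * g⁻¹) = g * b * g⁻¹ * (g * a * g⁻¹) ↔ a * b = b * a := by
    intro a b; rw [conj_mul, conj_mul]; exact (MulAut.conj g).injective.eq_iff
  refine ⟨by rw [conj_mul, h.sq1]; group, fun e => h.ne (conj_eq_one_iff.mp e), ⟨z, h.mem, rfl⟩,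
    ?_, ?_, ?_, ?_, ?_, ?_⟩
  · intro q hq; obtain ⟨y, hy, rfl⟩ := hmem hq; exact hc.mpr (h.cz y hy)
  · intro a ha b hb; obtain ⟨a, ha', rfl⟩ := hmem ha; obtain ⟨b, hb', rfl⟩ := hmem hb
    rw [← conjugate_commutatorElement]
    rcases h.comm a ha' b hb' with e | e <;> rw [e]
    · exact Or.inl (by group)
    · exact Or.inr rfl
  · intro q hq; obtain ⟨y, hy, rfl⟩ := hmem hq; rw [conj_pow, h.four y hy]; group
  · intro c hc' hcomm h2
    obtain ⟨y, hy, rfl⟩ := hmem hc'
    rw [conj_mul, conj_eq_one_iff] at h2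
    rcases h.inv y hy (fun q hq => hc.mp (hcomm _ ⟨q, hq, rfl⟩)) h2 with e | e <;> rw [e]
    · exact Or.inl (by group)
    · exact Or.inr rfl
  · intro x hx q hq
    obtain ⟨y, hy, rfl⟩ := hmem hq
    refine ⟨(g⁻¹ * x * g) * y * (g⁻¹ * x * g)⁻¹, h.norm _ ?_ y hy, ?_⟩
    · apply hc.mp; simpa [mul_assoc] using hx
    · show g * _ * g⁻¹ = _; group
  · intro x hx hcomm
    refine ⟨g⁻¹ * x * g, h.self _ ?_ (fun q hq => ?_), ?_⟩
    · apply hc.mp; simpa [mul_assoc] using hx
    · apply hc.mp; simpa [mul_assoc] using hcomm _ ⟨q, hq, rfl⟩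
    · show g * _ * g⁻¹ = _; group

/-- Squares are central in `Q`. -/
theorem SymData.sq_central {z : G} {Q : Subgroup G} (h : SymData z Q) {a b : G} (ha : a ∈ Q)
    (hb : b ∈ Q) : a * a * b = b * (a * a) := by
  have hab : a * b = ⁅a, b⁆ * b * a := by rw [commutatorElement_def]; group
  have hcc : ∀ x ∈ Q, x * ⁅a, b⁆ = ⁅a, b⁆ * x := fun x hx => by
    rcases h.comm a ha b hb with e | e <;> rw [e]
    · simp
    · exact h.cz x hx
  have h2 : ⁅a, b⁆ * ⁅a, b⁆ = 1 := by rcases h.comm a ha b hb with e | e <;> simp [e, h.sq1]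
  calc a * a * b = a * (a * b) := mul_assoc _ _ _
    _ = a * ⁅a, b⁆ * b * a := by rw [hab]; group
    _ = ⁅a, b⁆ * (a * b) * a := by rw [hcc a ha]; group
    _ = (⁅a, b⁆ * ⁅a, b⁆) * (b * (a * a)) := by rw [hab]; group
    _ = b * (a * a) := by rw [h2, one_mul]

theorem SymData.sq_sq {z : G} {Q : Subgroup G} (h : SymData z Q) {a : G} (ha : a ∈ Q) :
    a * a * (a * a) = 1 := by
  rw [← h.four a ha, pow_succ, pow_succ, sq]; group

/-- The conjugation lemma: if `z' = g z g⁻¹ ∈ Q` is not `z` then `z ∈ g Q g⁻¹`. -/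
theorem SymData.mem_conj [Finite G] {z : G} {Q : Subgroup G} (h : SymData z Q) (g : G)
    (hne : g * z * g⁻¹ ≠ z) (hin : g * z * g⁻¹ ∈ Q) :
    z ∈ Q.map (MulAut.conj g).toMonoidHom := by
  classical
  set z' := g * z * g⁻¹ with hz'
  set P := Q.map (MulAut.conj g).toMonoidHom with hP
  have hP' : SymData z' P := h.conj g
  by_contra hzP
  have hzinv : z⁻¹ = z := inv_eq_of_mul_eq_one_left h.sq1
  have hzz' : z' * z = z * z' := h.cz z' hin
  -- an element of `G` interchanging `z` and `z'` gives the result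
  have exchange : ∀ y : G, y * z * y⁻¹ = z' → y * z' * y⁻¹ = z → False := by
    intro y h1 h2
    apply hzP
    rw [hP]
    have hgy : (g⁻¹ * y) * z = z * (g⁻¹ * y) := by
      calc (g⁻¹ * y) * z = g⁻¹ * (y * z * y⁻¹) * y := by group
        _ = z * (g⁻¹ * y) := by rw [h1, hz']; group
    refine ⟨(g⁻¹ * y) * z' * (g⁻¹ * y)⁻¹, h.norm _ hgy z' hin, ?_⟩
    show g * _ * g⁻¹ = z
    rw [show g * ((g⁻¹ * y) * z' * (g⁻¹ * y)⁻¹) * g⁻¹ = y * z' * y⁻¹ by group, h2]
  -- an element of `Q` moving `z'`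
  obtain ⟨q, hqQ, hq⟩ : ∃ q ∈ Q, q * z' * q⁻¹ = z * z' := by
    by_contra hcon
    push Not at hcon
    have hcen : ∀ x ∈ Q, z' * x = x * z' := fun x hx => by
      rcases h.comm x hx z' hin with e | e
      · exact (commutatorElement_eq_one_iff_mul_comm.mp e).symm
      · refine absurd ?_ (hcon x hx)
        rw [commutatorElement_def] at e
        exact mul_inv_eq_iff_eq_mul.mp e
    rcases h.inv z' hin hcen hP'.sq1 with e | e
    · exact hP'.ne e
    · exact hne e
  have hqz : q * z * q⁻¹ = z := mul_inv_eq_iff_eq_mul.mpr (h.cz q hqQ)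
  have exchange' : ∀ x ∈ P, x * z * x⁻¹ ≠ z * z' := by
    intro x hx h1
    have hxz' : x * z' * x⁻¹ = z' := mul_inv_eq_iff_eq_mul.mpr (hP'.cz x hx)
    refine exchange (x * q * x) ?_ ?_
    · calc (x * q * x) * z * (x * q * x)⁻¹ = x * (q * (x * z * x⁻¹) * q⁻¹) * x⁻¹ := by group
        _ = x * ((q * z * q⁻¹) * (q * z' * q⁻¹)) * x⁻¹ := by rw [h1]; group
        _ = x * (z * (z * z')) * x⁻¹ := by rw [hqz, hq]
        _ = z' := by rw [← mul_assoc z, h.sq1, one_mul, hxz']
    · calc (x * q * x) * z' * (x * q * x)⁻¹ = x * (q * (x * z' * x⁻¹) * q⁻¹) * x⁻¹ := by group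
        _ = x * (z * z') * x⁻¹ := by rw [hxz', hq]
        _ = (x * z * x⁻¹) * (x * z' * x⁻¹) := by group
        _ = z := by rw [h1, hxz', mul_assoc, hP'.sq1, mul_one]
  have hnormP : ∀ r : G, r * z' = z' * r → ∀ x ∈ P, r * x * r⁻¹ ∈ P := hP'.norm
  have hzN : ∀ x ∈ P, z * x * z ∈ P := fun x hx => by
    have := hnormP z hzz'.symm x hx
    rwa [hzinv] at this
  -- `[x, z]` central in `P` forces `x` to commute with `z`
  have L1 : ∀ x ∈ P, (∀ p ∈ P, (x * z * x⁻¹ * z) * p = p * (x * z * x⁻¹ * z)) → x * z = z * x := by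
    intro x hx hcen
    set c := x * z * x⁻¹ * z with hc
    have hcP : c ∈ P := by
      have := mul_mem hx (hzN x⁻¹ (inv_mem hx))
      simpa [hc, mul_assoc] using this
    have hxz : x * z * x⁻¹ = c * z := by rw [hc, mul_assoc _ z z, h.sq1, mul_one]
    by_cases hc2 : c * c = 1
    · rcases hP'.inv c hcP hcen hc2 with e | e
      · rw [e, one_mul] at hxz; exact mul_inv_eq_iff_eq_mul.mp hxz
      · rw [e, hzz'] at hxz; exact absurd hxz (exchange' x hx)
    · exfalso
      have hcc : c * c = z' := (hP'.inv _ (mul_mem hcP hcP) (fun p hp => hP'.sq_central hcP hp)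
        (hP'.sq_sq hcP)).resolve_left hc2
      refine exchange' (x * x) (mul_mem hx hx) ?_
      calc x * x * z * (x * x)⁻¹ = x * (x * z * x⁻¹) * x⁻¹ := by group
        _ = (x * c) * (z * x⁻¹) := by rw [hxz]; group
        _ = c * (x * z * x⁻¹) := by rw [← hcen x hx]; group
        _ = z * z' := by rw [hxz, ← mul_assoc, hcc, hzz']
  -- the intersection of `P` and `Q`
  have hRcases : ∀ w ∈ Q, w * z' = z' * w ∨ (q⁻¹ * w) * z' = z' * (q⁻¹ * w) := by
    intro w hw
    rcases h.comm w hw z' hin with e | e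
    · exact Or.inl (commutatorElement_eq_one_iff_mul_comm.mp e)
    · refine Or.inr ?_
      rw [commutatorElement_def] at e
      have e' : w * z' * w⁻¹ = z * z' := mul_inv_eq_iff_eq_mul.mp e
      calc q⁻¹ * w * z' = q⁻¹ * (w * z' * w⁻¹) * w := by group
        _ = q⁻¹ * (q * z' * q⁻¹) * w := by rw [e', hq]
        _ = z' * (q⁻¹ * w) := by group
  have hcR : ∀ y ∈ Q, y * y = 1 → (∀ r ∈ Q, r * z' = z' * r → y * r = r * y) →
      y = 1 ∨ y = z ∨ y = z' ∨ y = z * z' := by
    intro y hy hy2 hyR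
    have central : ∀ u ∈ Q, u * q = q * u → (∀ r ∈ Q, r * z' = z' * r → u * r = r * u) →
        ∀ w ∈ Q, u * w = w * u := by
      intro u hu huq huR w hw
      rcases hRcases w hw with e | e
      · exact huR w hw e
      · have := huR _ (mul_mem (inv_mem hqQ) hw) e
        calc u * w = (u * q) * (q⁻¹ * w) := by group
          _ = q * (u * (q⁻¹ * w)) := by rw [huq, mul_assoc]
          _ = w * u := by rw [this]; group
    rcases h.comm q hqQ y hy with e | e
    · rcases h.inv y hy (central y hy (commutatorElement_eq_one_iff_mul_comm.mp e).symm hyR) hy2 with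
        e' | e'
      · exact Or.inl e'
      · exact Or.inr (Or.inl e')
    · rw [commutatorElement_def] at e
      have e1 : q * y * q⁻¹ = z * y := mul_inv_eq_iff_eq_mul.mp e
      have hyz' : y * z' = z' * y := hyR z' hin rfl
      have hyzq : (y * z') * q = q * (y * z') := by
        symm
        rw [← mul_inv_eq_iff_eq_mul, ← conj_mul, e1, hq]
        calc z * y * (z * z') = z * (y * z) * z' := by group
          _ = z * z * (y * z') := by rw [h.cz y hy]; group
          _ = y * z' := by rw [h.sq1, one_mul]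
      have h2 : (y * z') * (y * z') = 1 := by
        calc (y * z') * (y * z') = y * (z' * y) * z' := by group
          _ = (y * y) * (z' * z') := by rw [← hyz']; group
          _ = 1 := by rw [hy2, hP'.sq1, one_mul]
      have hR : ∀ r ∈ Q, r * z' = z' * r → (y * z') * r = r * (y * z') := fun r hr hr' => by
        rw [mul_assoc, ← hr', ← mul_assoc, hyR r hr hr', mul_assoc]
      have hzi : z'⁻¹ = z' := inv_eq_of_mul_eq_one_left hP'.sq1
      rcases h.inv _ (mul_mem hy hin) (central _ (mul_mem hy hin) hyzq hR) h2 with e' | e'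
      · refine Or.inr (Or.inr (Or.inl ?_))
        rw [eq_inv_of_mul_eq_one_left e', hzi]
      · refine Or.inr (Or.inr (Or.inr ?_))
        rw [eq_mul_inv_of_mul_eq e', hzi]
  have hzz'P : z * z' ∉ P := fun hm => hzP (by
    have := mul_mem hm hP'.mem
    rwa [mul_assoc, hP'.sq1, mul_one] at this)
  have hD : ∀ d ∈ Q, d ∈ P → d = 1 ∨ d = z' := by
    intro d hdQ hdP
    have h2 : d * d = 1 := by
      rcases h.inv _ (mul_mem hdQ hdQ) (fun x hx => h.sq_central hdQ hx) (h.sq_sq hdQ) with e | e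
      · exact e
      · exact absurd (e ▸ mul_mem hdP hdP) hzP
    have hR : ∀ r ∈ Q, r * z' = z' * r → d * r = r * d := by
      intro r hr hr'
      rcases h.comm d hdQ r hr with e | e
      · exact commutatorElement_eq_one_iff_mul_comm.mp e
      · exfalso; apply hzP
        rw [← e, commutatorElement_def]
        have := mul_mem hdP (hnormP r hr' d⁻¹ (inv_mem hdP))
        simpa [mul_assoc] using this
    rcases hcR d hdQ h2 hR with e | e | e | e
    · exact Or.inl e
    · exact absurd (e ▸ hdP) hzP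
    · exact Or.inr e
    · exact absurd (e ▸ hdP) hzz'P
  have hRP1 : ∀ r ∈ Q, r * z' = z' * r → ∀ p ∈ P, p * z = z * p → ⁅r, p⁆ = 1 ∨ ⁅r, p⁆ = z' := by
    intro r hr hr' p hp hp'
    rw [commutatorElement_def]
    refine hD _ ?_ (mul_mem (hnormP r hr' p hp) (inv_mem hp))
    have := mul_mem hr (h.norm p hp' r⁻¹ (inv_mem hr))
    simpa [mul_assoc] using this
  -- `[x, z]` commutes with `z`
  have L1' : ∀ x ∈ P, (x⁻¹ * (z * x * z)) * z = z * (x⁻¹ * (z * x * z)) := by
    intro x hx
    set b := x⁻¹ * (z * x * z) with hb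
    have hbP : b ∈ P := mul_mem (inv_mem hx) (hzN x hx)
    refine L1 b hbP fun p hp => ?_
    have hzb : z * b⁻¹ * z = b := by
      have hzz : ∀ u : G, z * (z * u) = u := fun u => by rw [← mul_assoc, h.sq1, one_mul]
      rw [hb]; simp [mul_assoc, hzinv, hzz, h.sq1]
    rw [show b * z * b⁻¹ * z = b * (z * b⁻¹ * z) by group, hzb]
    exact hP'.sq_central hbP hp
  -- `C_P(C_P(z)) ≤ C_P(z)`
  have L2 : ∀ m ∈ P, (∀ p ∈ P, p * z = z * p → m * p = p * m) → m * z = z * m := by
    intro m hm hmc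
    set a := m⁻¹ * (z * m * z) with ha
    have haP : a ∈ P := mul_mem (inv_mem hm) (hzN m hm)
    have hac : ∀ p ∈ P, p * z = z * p → a * p = p * a := by
      intro p hp hp'
      have h1 := hmc p hp hp'
      have h2 : z * m * z * p = p * (z * m * z) := by
        calc z * m * z * p = z * m * (p * z) := by rw [hp']; group
          _ = z * (m * p) * z := by group
          _ = z * p * m * z := by rw [h1]; group
          _ = p * (z * m * z) := by rw [← hp']; group
      have h3 : m⁻¹ * p = p * m⁻¹ := (Commute.inv_left h1).eq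
      rw [ha, mul_assoc, h2, ← mul_assoc, h3, mul_assoc]
    have hcen : ∀ x ∈ P, a * x = x * a := by
      intro x hx
      set b := x⁻¹ * (z * x * z) with hb
      have hbP : b ∈ P := mul_mem (inv_mem hx) (hzN x hx)
      have hab := hac b hbP (L1' x hx)
      have hmb := hmc b hbP (L1' x hx)
      have hzm : z * m * z⁻¹ = m * a := by rw [ha, hzinv]; group
      have hzx : z * x * z⁻¹ = x * b := by rw [hb, hzinv]; group
      have hfix : z * ⁅m, x⁆ * z⁻¹ = ⁅m, x⁆ := by
        rw [mul_inv_eq_iff_eq_mul]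
        rcases hP'.comm m hm x hx with e | e <;> rw [e]
        · simp
        · exact hzz'.symm
      rw [conjugate_commutatorElement, hzm, hzx] at hfix
      have h1 : ⁅m * a, x * b⁆ = m * ⁅a, x⁆ * m⁻¹ * ⁅m, x⁆ := by
        rw [commutatorElement_def, commutatorElement_def, commutatorElement_def]
        calc m * a * (x * b) * (m * a)⁻¹ * (x * b)⁻¹
            = m * a * x * (b * a⁻¹) * m⁻¹ * b⁻¹ * x⁻¹ := by group
          _ = m * a * x * a⁻¹ * (b * m⁻¹) * b⁻¹ * x⁻¹ := by
              rw [← (Commute.inv_left hab).eq]; group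
          _ = m * a * x * a⁻¹ * m⁻¹ * x⁻¹ := by
              rw [← (Commute.inv_left hmb).eq]; group
          _ = _ := by group
      rw [h1, mul_eq_right, conj_eq_one_iff, commutatorElement_eq_one_iff_mul_comm] at hfix
      exact hfix
    have h1 := L1 m⁻¹ (inv_mem hm) (fun p hp => by
      rw [show m⁻¹ * z * m⁻¹⁻¹ * z = a by rw [ha]; group]; exact hcen p hp)
    exact (Commute.inv_left_iff.mp h1).eq
  have hzself : (∀ y ∈ P, y * z = z * y) → False := fun hall =>
    hzP (hP'.self z hzz'.symm fun y hy => (hall y hy).symm)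
  have Rconj : ∀ r ∈ Q, r * z' = z' * r → ∀ x ∈ P,
      ∃ m ∈ P, m * z = z * m ∧ r * x * r⁻¹ = x * m := by
    intro r hr hr' x hx
    set m := x⁻¹ * (r * x * r⁻¹) with hm
    have hmP : m ∈ P := mul_mem (inv_mem hx) (hnormP r hr' x hx)
    refine ⟨m, hmP, L2 m hmP fun p hp hp' => ?_, by rw [hm]; group⟩
    have hfix : r * ⁅x, p⁆ * r⁻¹ = ⁅x, p⁆ := by
      rw [mul_inv_eq_iff_eq_mul]
      rcases hP'.comm x hx p hp with e | e <;> rw [e]
      · simp
      · exact hr'
    obtain ⟨e, he, hrp⟩ : ∃ e, (e = 1 ∨ e = z') ∧ r * p * r⁻¹ = e * p :=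
      ⟨⁅r, p⁆, hRP1 r hr hr' p hp hp', by rw [commutatorElement_def]; group⟩
    have hec : ∀ y ∈ P, y * e = e * y := fun y hy => by
      rcases he with rfl | rfl
      · simp
      · exact hP'.cz y hy
    rw [conjugate_commutatorElement, hrp, show r * x * r⁻¹ = x * m by rw [hm]; group,
      commutatorElement_def, commutatorElement_def] at hfix
    have hxm := mul_mem hx hmP
    have h1 : x * m * (e * p) * (x * m)⁻¹ * (e * p)⁻¹ = x * m * p * (x * m)⁻¹ * p⁻¹ := by
      calc x * m * (e * p) * (x * m)⁻¹ * (e * p)⁻¹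
          = ((x * m) * e) * p * (x * m)⁻¹ * (e * p)⁻¹ := by group
        _ = e * (x * m * p * (x * m)⁻¹ * p⁻¹) * e⁻¹ := by rw [hec _ hxm]; group
        _ = _ := by
            rw [mul_inv_eq_iff_eq_mul]
            exact (hec _ (mul_mem (mul_mem (mul_mem hxm hp) (inv_mem hxm)) (inv_mem hp))).symm
    rw [h1] at hfix
    have h2 : m * p * m⁻¹ = p := by
      calc m * p * m⁻¹ = x⁻¹ * (x * m * p * (x * m)⁻¹ * p⁻¹) * p * x := by group
        _ = p := by rw [hfix]; group
    exact mul_inv_eq_iff_eq_mul.mp h2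
  by_cases hcase1 : ∃ r ∈ Q, ∃ s ∈ Q, r * z' = z' * r ∧ s * z' = z' * s ∧ ⁅r, s⁆ = z
  · obtain ⟨r, hr, s, hs, hr', hs', hrs⟩ := hcase1
    apply hzself
    intro y hy
    -- write `y` as a conjugate under `s r`
    set u := s * r with hu
    have hu' : u * z' = z' * u := by rw [hu, mul_assoc, hr', ← mul_assoc, hs', mul_assoc]
    have hu'' : u⁻¹ * z' = z' * u⁻¹ := (Commute.inv_left hu').eq
    obtain ⟨x, hxP, rfl⟩ : ∃ x ∈ P, u * x * u⁻¹ = y :=
      ⟨u⁻¹ * y * u, by simpa using hnormP u⁻¹ hu'' y hy, by group⟩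
    obtain ⟨m, hm, hm', hrx⟩ := Rconj r hr hr' x hxP
    obtain ⟨n, hn, hn', hsx⟩ := Rconj s hs hs' x hxP
    obtain ⟨e₁, he₁, hrn⟩ : ∃ e, (e = 1 ∨ e = z') ∧ r * n * r⁻¹ = e * n :=
      ⟨⁅r, n⁆, hRP1 r hr hr' n hn hn', by rw [commutatorElement_def]; group⟩
    obtain ⟨e₂, he₂, hsm⟩ : ∃ e, (e = 1 ∨ e = z') ∧ s * m * s⁻¹ = e * m :=
      ⟨⁅s, m⁆, hRP1 s hs hs' m hm hm', by rw [commutatorElement_def]; group⟩
    obtain ⟨e₃, he₃, hmn⟩ : ∃ e, (e = 1 ∨ e = z') ∧ m * n = e * (n * m) :=
      ⟨⁅m, n⁆, hP'.comm m hm n hn, by rw [commutatorElement_def]; group⟩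
    have hec : ∀ {e : G}, (e = 1 ∨ e = z') → ∀ y ∈ P, y * e = e * y := fun he y hy => by
      rcases he with rfl | rfl
      · simp
      · exact hP'.cz y hy
    have hei : ∀ {e : G}, (e = 1 ∨ e = z') → e⁻¹ = e := fun he => by
      rcases he with rfl | rfl
      · simp
      · exact inv_eq_of_mul_eq_one_left hP'.sq1
    have h1 : u * x * u⁻¹ = x * n * (e₂ * m) := by
      calc u * x * u⁻¹ = s * (r * x * r⁻¹) * s⁻¹ := by rw [hu]; group
        _ = (s * x * s⁻¹) * (s * m * s⁻¹) := by rw [hrx]; group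
        _ = _ := by rw [hsx, hsm]
    have h2 : (r * s) * x * (r * s)⁻¹ = x * m * (e₁ * n) := by
      calc (r * s) * x * (r * s)⁻¹ = r * (s * x * s⁻¹) * r⁻¹ := by group
        _ = (r * x * r⁻¹) * (r * n * r⁻¹) := by rw [hsx]; group
        _ = _ := by rw [hrx, hrn]
    have he₁P : e₁ ∈ P := by
      rcases he₁ with rfl | rfl; exacts [one_mem _, hP'.mem]
    have he₂P : e₂ ∈ P := by
      rcases he₂ with rfl | rfl; exacts [one_mem _, hP'.mem]
    have he₃P : e₃ ∈ P := by
      rcases he₃ with rfl | rfl; exacts [one_mem _, hP'.mem]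
    set Y := u * x * u⁻¹ with hY
    have hYP : Y ∈ P := hy
    set E := e₁ * e₂ * e₃ with hE
    have hEc : ∀ p ∈ P, p * E = E * p := fun p hp => by
      rw [hE, ← mul_assoc, ← mul_assoc, hec he₁ p hp, mul_assoc e₁ p e₂, hec he₂ p hp]
      rw [mul_assoc, mul_assoc, hec he₃ p hp]; group
    have h3 : z * Y * z⁻¹ = Y * E := by
      calc z * Y * z⁻¹ = (r * s) * x * (r * s)⁻¹ := by
            rw [← hrs, hY, hu, commutatorElement_def]; group
        _ = x * (m * e₁) * n := by rw [h2]; group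
        _ = x * e₁ * (m * n) := by rw [hec he₁ m hm]; group
        _ = x * (e₁ * e₃) * (n * m) := by rw [hmn]; group
        _ = (x * n * (e₂ * m)) * E := by
            have hee : e₂ * (e₁ * e₂ * e₃) = e₁ * e₃ := by
              rw [← mul_assoc, ← mul_assoc, hec he₁ e₂ he₂P, mul_assoc e₁ e₂ e₂,
                mul_eq_one_iff_eq_inv.mpr (hei he₂).symm, mul_one]
            have hnm : (e₁ * e₃) * (n * m) = (n * m) * (e₁ * e₃) := by
              rw [← mul_assoc (n * m), hec he₁ _ (mul_mem hn hm), mul_assoc e₁ (n * m),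
                hec he₃ _ (mul_mem hn hm), mul_assoc]
            rw [mul_assoc x, hnm, hE, ← hec he₂ m hm,
              show x * n * (m * e₂) * (e₁ * e₂ * e₃) = x * n * m * (e₂ * (e₁ * e₂ * e₃)) by group,
              hee]
            group
        _ = Y * E := by rw [← h1]
    refine L1 Y hYP fun p hp => ?_
    have : Y * z * Y⁻¹ * z = E⁻¹ := by
      calc Y * z * Y⁻¹ * z = Y * (z * Y * z⁻¹)⁻¹ := by rw [hzinv]; simp [mul_assoc, hzinv]
        _ = E⁻¹ := by
            rw [h3, hEc Y hYP]; group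
    rw [this]
    exact (Commute.inv_left (hEc p hp).symm).eq
  by_cases hcase2 : ∃ r ∈ Q, r * z' = z' * r ∧ r * r = z
  · obtain ⟨r, hr, hr', hrr⟩ := hcase2
    apply hzself
    intro x hx
    obtain ⟨m, hm, hm', hrx⟩ := Rconj r hr hr' x hx
    obtain ⟨e, he, hrm⟩ : ∃ e, (e = 1 ∨ e = z') ∧ r * m * r⁻¹ = e * m :=
      ⟨⁅r, m⁆, hRP1 r hr hr' m hm hm', by rw [commutatorElement_def]; group⟩
    have hec : ∀ y ∈ P, y * e = e * y := fun y hy => by
      rcases he with rfl | rfl
      · simp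
      · exact hP'.cz y hy
    have h3 : z * x * z⁻¹ = x * (e * (m * m)) := by
      calc z * x * z⁻¹ = r * (r * x * r⁻¹) * r⁻¹ := by rw [← hrr]; group
        _ = r * (x * m) * r⁻¹ := by rw [hrx]
        _ = (r * x * r⁻¹) * (r * m * r⁻¹) := by group
        _ = x * (m * e) * m := by rw [hrx, hrm]; group
        _ = x * (e * (m * m)) := by rw [hec m hm]; group
    have hEc : ∀ p ∈ P, (e * (m * m)) * p = p * (e * (m * m)) := fun p hp => by
      rw [mul_assoc, hP'.sq_central hm hp, ← mul_assoc, ← hec p hp, mul_assoc]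
    refine L1 x hx fun p hp => ?_
    have : x * z * x⁻¹ * z = (e * (m * m))⁻¹ := by
      calc x * z * x⁻¹ * z = x * (z * x * z⁻¹)⁻¹ := by simp [mul_assoc, hzinv]
        _ = x * (e * (m * m))⁻¹ * x⁻¹ := by rw [h3]; group
        _ = (e * (m * m))⁻¹ := by
            rw [mul_inv_eq_iff_eq_mul]; exact (Commute.inv_left (hEc x hx)).eq.symm
    rw [this]
    exact (Commute.inv_left (hEc p hp)).eq
  -- the case `|Q| = 8`
  push Not at hcase1 hcase2
  have hR4 : ∀ r ∈ Q, r * z' = z' * r → r = 1 ∨ r = z ∨ r = z' ∨ r = z * z' := by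
    intro r hr hr'
    refine hcR r hr ?_ fun s hs hs' => ?_
    · exact (h.inv _ (mul_mem hr hr) (fun x hx => h.sq_central hr hx) (h.sq_sq hr)).resolve_right
        (hcase2 r hr hr')
    · exact commutatorElement_eq_one_iff_mul_comm.mp
        ((h.comm r hr s hs).resolve_right (hcase1 r hr s hs hr' hs'))
  have hcenQ : ∀ c ∈ Q, (∀ x ∈ Q, c * x = x * c) → c = 1 ∨ c = z := by
    intro c hc hcen
    refine h.inv c hc hcen ?_
    exact (h.inv _ (mul_mem hc hc) (fun x hx => h.sq_central hc hx) (h.sq_sq hc)).resolve_right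
      (hcase2 c hc (hcen z' hin))
  have hcenP : ∀ c ∈ P, (∀ x ∈ P, c * x = x * c) → c = 1 ∨ c = z' := by
    intro c hc hcen
    obtain ⟨d, hd, rfl⟩ := hc
    have hdc : ∀ x ∈ Q, d * x = x * d := fun x hx => by
      have h1 : g * d * g⁻¹ * (g * x * g⁻¹) = g * x * g⁻¹ * (g * d * g⁻¹) := hcen _ ⟨x, hx, rfl⟩
      rw [conj_mul, conj_mul] at h1
      exact (MulAut.conj g).injective h1
    rcases hcenQ d hd hdc with rfl | rfl
    · exact Or.inl (map_one _)
    · exact Or.inr rfl
  have hcardQ : Nat.card Q ≤ 8 := by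
    let f : Fin 2 × Fin 4 → G := fun ij => q ^ (ij.1 : ℕ) * ![1, z, z', z * z'] ij.2
    have hsub : (Q : Set G) ⊆ Set.range f := by
      intro w hw
      rcases hRcases w hw with e | e
      · rcases hR4 w hw e with e' | e' | e' | e'
        exacts [⟨(0, 0), by simp [f, e']⟩, ⟨(0, 1), by simp [f, e']⟩, ⟨(0, 2), by simp [f, e']⟩,
          ⟨(0, 3), by simp [f, e']⟩]
      · have key : ∀ v, q⁻¹ * w = v → q * v = w := fun v hv => by rw [← hv]; group
        rcases hR4 _ (mul_mem (inv_mem hqQ) hw) e with e' | e' | e' | e'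
        exacts [⟨(1, 0), by simpa [f] using key _ e'⟩, ⟨(1, 1), by simpa [f] using key _ e'⟩,
          ⟨(1, 2), by simpa [f] using key _ e'⟩, ⟨(1, 3), by simpa [f] using key _ e'⟩]
    have h1 := Set.ncard_le_ncard hsub
    have h2 : (Set.range f).ncard ≤ 8 := by
      rw [← Set.image_univ]
      exact (Set.ncard_image_le).trans (by simp [Set.ncard_univ, Nat.card_eq_fintype_card])
    rw [← Nat.card_coe_set_eq] at h1
    exact h1.trans h2
  have hcardP : Nat.card P ≤ 8 := by
    rw [hP, Subgroup.card_map_of_injective (f := (MulAut.conj g).toMonoidHom) (MulAut.conj g).injective]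
    exact hcardQ
  obtain ⟨x, hxP, hxz, hx1, hxz'⟩ : ∃ x ∈ P, x * z = z * x ∧ x ≠ 1 ∧ x ≠ z' := by
    obtain ⟨a, haP, ha1, ha2⟩ : ∃ a ∈ P, a ≠ 1 ∧ a ≠ z' := by
      refine ⟨g * q * g⁻¹, ⟨q, hqQ, rfl⟩, fun e => ?_, fun e => ?_⟩
      · have : q = 1 := conj_eq_one_iff.mp e
        rw [this] at hq
        apply h.ne
        have h1 : z' = z * z' := by simpa using hq
        exact mul_eq_right.mp h1.symm
      · have : q = z := (MulAut.conj g).injective e
        rw [this, mul_inv_eq_iff_eq_mul] at hq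
        exact h.ne (left_eq_mul.mp hq)
    by_cases hcen : ∀ p ∈ P, (a * z * a⁻¹ * z) * p = p * (a * z * a⁻¹ * z)
    · exact ⟨a, haP, L1 a haP hcen, ha1, ha2⟩
    set b := z * a * z with hb
    have hbP : b ∈ P := hzN a haP
    have hzab : z * (a * b) * z⁻¹ = b * a := by
      rw [hb, hzinv]
      calc z * (a * (z * a * z)) * z = (z * a * z) * a * (z * z) := by group
        _ = _ := by rw [h.sq1, mul_one]
    refine ⟨a * b, mul_mem haP hbP, L1 _ (mul_mem haP hbP) fun p hp => ?_, fun e => ?_, fun e => ?_⟩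
    · have : a * b * z * (a * b)⁻¹ * z = ⁅a, b⁆ := by
        calc a * b * z * (a * b)⁻¹ * z = a * b * (z * (a * b) * z⁻¹)⁻¹ := by simp [mul_assoc, hzinv]
          _ = _ := by rw [hzab, commutatorElement_def]; group
      rw [this]
      rcases hP'.comm a haP b hbP with e | e <;> rw [e]
      · simp
      · exact (hP'.cz p hp).symm
    · apply hcen
      intro p hp
      have hzaz : z * a⁻¹ * z = a := by
        have : z * a * z = a⁻¹ := eq_inv_of_mul_eq_one_right e
        calc z * a⁻¹ * z = z * (z * a * z) * z := by rw [this]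
          _ = (z * z) * a * (z * z) := by group
          _ = a := by rw [h.sq1]; group
      rw [show a * z * a⁻¹ * z = a * (z * a⁻¹ * z) by group, hzaz]
      exact hP'.sq_central haP hp
    · apply hcen
      intro p hp
      have hzaz : z * a⁻¹ * z = z' * a := by
        have hb' : z * a * z = a⁻¹ * z' := by rw [← hb]; exact eq_inv_mul_of_mul_eq e
        calc z * a⁻¹ * z = (z * a * z)⁻¹ := by simp [mul_assoc, hzinv]
          _ = _ := by rw [hb', mul_inv_rev, inv_inv, inv_eq_of_mul_eq_one_left hP'.sq1]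
      rw [show a * z * a⁻¹ * z = a * (z * a⁻¹ * z) by group, hzaz]
      calc a * (z' * a) * p = z' * (a * a) * p := by rw [← mul_assoc, hP'.cz a haP]; group
        _ = z' * (p * (a * a)) := by rw [mul_assoc, hP'.sq_central haP hp]
        _ = p * (a * (z' * a)) := by
            rw [← mul_assoc z', ← hP'.cz p hp, ← mul_assoc a z', hP'.cz a haP]; group
  -- `z` acts on `P` as an inner automorphism
  have hcardc : Nat.card (Subgroup.center P) = 2 := by
    refine (Nat.card_eq_two_iff' (1 : Subgroup.center P)).mpr ⟨⟨⟨z', hP'.mem⟩, ?_⟩, ?_, ?_⟩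
    · exact Subgroup.mem_center_iff.mpr fun y => Subtype.ext (hP'.cz y y.2)
    · exact fun e => hP'.ne (congrArg (fun c : Subgroup.center P => ((c : P) : G)) e)
    · rintro ⟨⟨c, hc⟩, hcc⟩ hne1
      rcases hcenP c hc (fun x hx => (congrArg Subtype.val (Subgroup.mem_center_iff.mp hcc ⟨x, hx⟩)).symm) with rfl | rfl
      · exact absurd (Subtype.ext (Subtype.ext rfl)) hne1
      · rfl
  have hcommP : ∀ a b : P, ⁅a, b⁆ ∈ Subgroup.center P := fun a b => by
    rw [Subgroup.mem_center_iff]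
    intro y
    apply Subtype.ext
    have hcast : ((⁅a, b⁆ : P) : G) = ⁅(a : G), (b : G)⁆ := rfl
    show (y : G) * ((⁅a, b⁆ : P) : G) = ((⁅a, b⁆ : P) : G) * y
    rw [hcast]
    rcases hP'.comm a a.2 b b.2 with e | e <;> rw [e]
    · simp
    · exact hP'.cz y y.2
  let α : MulAut P :=
    { toFun := fun p => ⟨z * p * z, hzN p p.2⟩
      invFun := fun p => ⟨z * p * z, hzN p p.2⟩
      left_inv := fun p => Subtype.ext (by
        show z * (z * p * z) * z = p
        calc z * (z * p * z) * z = (z * z) * p * (z * z) := by group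
          _ = p := by rw [h.sq1]; group)
      right_inv := fun p => Subtype.ext (by
        show z * (z * p * z) * z = p
        calc z * (z * p * z) * z = (z * z) * p * (z * z) := by group
          _ = p := by rw [h.sq1]; group)
      map_mul' := fun a b => Subtype.ext (by
        show z * (a * b) * z = (z * a * z) * (z * b * z)
        calc z * (a * b) * z = z * a * (z * z) * b * z := by rw [h.sq1]; group
          _ = _ := by group) }
  set M := (Subgroup.centralizer ({z} : Set G)).subgroupOf P with hM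
  have hidx : M.index ≤ 2 := by
    have h4 : 4 ≤ Nat.card M := by
      have hm : ∀ y ∈ P, y * z = z * y → ∀ hy : y ∈ P, (⟨y, hy⟩ : P) ∈ M := fun y _ e hy =>
        Subgroup.mem_centralizer_singleton_iff.mpr e
      have hcz : ∀ y, y = 1 ∨ y = z' ∨ y = x ∨ y = x * z' → y ∈ P ∧ y * z = z * y := by
        rintro y (rfl | rfl | rfl | rfl)
        exacts [⟨one_mem _, by simp⟩, ⟨hP'.mem, hzz'⟩, ⟨hxP, hxz⟩,
          ⟨mul_mem hxP hP'.mem, by rw [mul_assoc, hzz', ← mul_assoc, hxz, mul_assoc]⟩]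
      let S : Finset G := {1, z', x, x * z'}
      have hS : S.card = 4 := by
        have hxz1 : x * z' ≠ 1 := fun e => hxz' (by
          rw [eq_inv_of_mul_eq_one_left e, inv_eq_of_mul_eq_one_left hP'.sq1])
        simp only [S]
        rw [Finset.card_insert_of_notMem (by simp [Ne.symm hP'.ne, Ne.symm hx1, Ne.symm hxz1]),
          Finset.card_insert_of_notMem (by simp [Ne.symm hxz', hx1]),
          Finset.card_insert_of_notMem (by simp [hP'.ne]), Finset.card_singleton]
      have hS' : ∀ y : S, (y : G) ∈ P ∧ (y : G) * z = z * y := fun y => hcz y (by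
        have hy := y.2
        simp only [S, Finset.mem_insert, Finset.mem_singleton] at hy
        exact hy)
      have := Nat.card_le_card_of_injective
        (fun y : S => (⟨⟨y, (hS' y).1⟩, hm y (hS' y).1 (hS' y).2 (hS' y).1⟩ : M))
        (fun a b hab => Subtype.ext (congrArg (fun c : M => ((c : P) : G)) hab))
      rwa [Nat.card_eq_finsetCard, hS] at this
    have h8 := Subgroup.card_mul_index M
    by_contra h3
    have : 4 * 3 ≤ Nat.card M * M.index := Nat.mul_le_mul h4 (by omega)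
    omega
  obtain ⟨y, hy⟩ := exists_inner_of_fixed_index_le_two hcardc hcommP α (fun p => α.left_inv p) M
    (fun p hp => Subtype.ext (by
      show z * p * z = p
      have hpz : (p : G) * z = z * p := Subgroup.mem_centralizer_singleton_iff.mp hp
      rw [← hpz, mul_assoc, h.sq1, mul_one])) hidx
  apply hzP
  have h2 : (y : G)⁻¹ * z ∈ P := by
    refine hP'.self _ ?_ fun p hp => ?_
    · rw [mul_assoc, ← hzz', ← mul_assoc, (Commute.inv_left (hP'.cz y y.2)).eq, mul_assoc]
    · have h1 : z * p * z = y * p * (y : G)⁻¹ := congrArg Subtype.val (hy ⟨p, hp⟩)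
      calc (y : G)⁻¹ * z * p = (y : G)⁻¹ * (z * p * z) * z := by
            rw [show (y : G)⁻¹ * (z * p * z) * z = (y : G)⁻¹ * z * p * (z * z) by group, h.sq1, mul_one]
        _ = p * ((y : G)⁻¹ * z) := by rw [h1]; group
  simpa using mul_mem y.2 h2

end CfsgLib.Classification
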