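import Cfsg.Agent.Classification.CyclicNormalAbelian
import Cfsg.Agent.Classification.Extraspecial
import Cfsg.Prelude.Def_ClassificationK

/-!
# Symplectic type 2-groups of exponent dividing four

Such a group has class at most two with derived subgroup of order at most two.
-/

set_option autoImplicit false

namespace CfsgLib.Classification.SymplecticFour

open CfsgLib.Classification
open scoped commutatorElement

variable {Q : Type*} [Group Q]

/-- In a finite `p`-group, a normal subgroup outside a normal subgroup `Z` has an element outside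
`Z` which is central modulo `Z`. -/
theorem exists_central_mod [Finite Q] {p : ℕ} [Fact p.Prime] (hQ : IsPGroup p Q) (N Z : Subgroup Q)
    [N.Normal] [Z.Normal] (h : ¬ N ≤ Z) : ∃ x ∈ N, x ∉ Z ∧ ∀ g : Q, ⁅g, x⁆ ∈ Z := by
  let π := QuotientGroup.mk' Z
  have : (N.map π).Normal := Subgroup.Normal.map inferInstance π (QuotientGroup.mk'_surjective Z)
  have hne : N.map π ≠ ⊥ := fun hb => h fun x hx => by
    have h1 := Subgroup.mem_map_of_mem π hx
    rw [hb, Subgroup.mem_bot] at h1
    exact (QuotientGroup.eq_one_iff x).mp h1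
  let _ : MulAction (Q ⧸ Z) (N.map π) := MulAction.compHom _ (MulAut.conjNormal (H := N.map π))
  obtain ⟨k, hk⟩ := IsPGroup.iff_card.1 ((hQ.to_quotient Z).to_subgroup (N.map π))
  have hd : p ∣ Nat.card (N.map π) := by
    rcases k with _ | k
    · exact absurd (Subgroup.card_eq_one.mp (by simpa using hk)) hne
    · exact hk ▸ dvd_pow_self p (Nat.succ_ne_zero k)
  have h1 : (1 : N.map π) ∈ MulAction.fixedPoints (Q ⧸ Z) (N.map π) := fun g =>
    map_one (MulAut.conjNormal (H := N.map π) g)
  obtain ⟨⟨_, x, hx, rfl⟩, hy, hy1⟩ :=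
    (hQ.to_quotient Z).exists_fixed_point_of_prime_dvd_card_of_fixed_point _ hd h1
  refine ⟨x, hx, fun hxZ => hy1 (Subtype.ext ((QuotientGroup.eq_one_iff x).mpr hxZ).symm), fun g => ?_⟩
  have h2 : π g * π x * (π g)⁻¹ = π x :=
    (MulAut.conjNormal_apply (π g) _).symm.trans (congrArg Subtype.val (hy (π g)))
  rw [← QuotientGroup.eq_one_iff]
  show π (g * x * g⁻¹ * x⁻¹) = 1
  rw [map_mul, map_mul, map_mul, map_inv, map_inv, h2, mul_inv_cancel]

/-- An element central modulo a subgroup `W` of the centre of `C` commutes with the commutators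
of `C`. -/
theorem commute_commutator {C W : Subgroup Q} {y : Q} (hy : ∀ c ∈ C, ⁅c, y⁆ ∈ W)
    (hW : ∀ c ∈ C, ∀ u ∈ W, Commute c u) (hWC : W ≤ C) : ∀ x ∈ ⁅C, C⁆, Commute x y := by
  suffices h : ⁅C, C⁆ ≤ Subgroup.centralizer ({y} : Set Q) from
    fun x hx => Subgroup.mem_centralizer_singleton_iff.mp (h hx)
  rw [Subgroup.commutator_le]
  intro a₀ ha₀ b₀ hb₀
  obtain ⟨a, ha, rfl⟩ : ∃ a ∈ C, a⁻¹ = a₀ := ⟨a₀⁻¹, inv_mem ha₀, inv_inv a₀⟩
  obtain ⟨b, hb, rfl⟩ : ∃ b ∈ C, b⁻¹ = b₀ := ⟨b₀⁻¹, inv_mem hb₀, inv_inv b₀⟩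
  rw [Subgroup.mem_centralizer_singleton_iff]
  have hconj : ∀ c ∈ C, ∃ u ∈ W, c * y * c⁻¹ = u * y := fun c hc =>
    ⟨⁅c, y⁆, hy c hc, by rw [commutatorElement_def]; group⟩
  obtain ⟨u, hu, hua⟩ := hconj a ha
  obtain ⟨v, hv, hvb⟩ := hconj b hb
  have h1 : a * b * y * (a * b)⁻¹ = v * u * y := by
    calc a * b * y * (a * b)⁻¹ = (a * v * a⁻¹) * (a * y * a⁻¹) := by
          rw [show a * b * y * (a * b)⁻¹ = a * (b * y * b⁻¹) * a⁻¹ by group, hvb]; group
      _ = v * u * y := by rw [(hW a ha v hv).eq, mul_inv_cancel_right, hua, mul_assoc]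
  have h2 : b * a * y * (b * a)⁻¹ = u * v * y := by
    calc b * a * y * (b * a)⁻¹ = (b * u * b⁻¹) * (b * y * b⁻¹) := by
          rw [show b * a * y * (b * a)⁻¹ = b * (a * y * a⁻¹) * b⁻¹ by group, hua]; group
      _ = u * v * y := by rw [(hW b hb u hu).eq, mul_inv_cancel_right, hvb, mul_assoc]
  rw [(hW v (hWC hv) u hu).eq, ← h2] at h1
  calc ⁅a⁻¹, b⁻¹⁆ * y = (b * a)⁻¹ * (a * b * y * (a * b)⁻¹) * (a * b) := by
        rw [commutatorElement_def]; group
    _ = (b * a)⁻¹ * (b * a * y * (b * a)⁻¹) * (a * b) := by rw [h1]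
    _ = y * ⁅a⁻¹, b⁻¹⁆ := by rw [commutatorElement_def]; group

variable [Finite Q]

/-- In a finite cyclic subgroup there is at most one involution. -/
theorem involution_unique {A : Subgroup Q} (hA : IsCyclic A) {x y : Q} (hxA : x ∈ A) (hyA : y ∈ A)
    (hx : x * x = 1) (hy : y * y = 1) (hx1 : x ≠ 1) (hy1 : y ≠ 1) : x = y := by
  classical
  by_contra hne
  cases nonempty_fintype A
  have hle := IsCyclic.card_pow_eq_one_le (α := A) (n := 2) (by norm_num)
  have hsub : ({1, ⟨x, hxA⟩, ⟨y, hyA⟩} : Finset A) ⊆ Finset.univ.filter (fun a => a ^ 2 = 1) := by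
    intro a ha
    simp only [Finset.mem_insert, Finset.mem_singleton] at ha
    rcases ha with rfl | rfl | rfl <;> simp [Subtype.ext_iff, sq, hx, hy]
  have h3 : ({1, ⟨x, hxA⟩, ⟨y, hyA⟩} : Finset A).card = 3 := by
    rw [Finset.card_insert_of_notMem (by simp [Subtype.ext_iff, Ne.symm hx1, Ne.symm hy1]),
      Finset.card_insert_of_notMem (by simp [hne]), Finset.card_singleton]
  have := (Finset.card_le_card hsub).trans hle
  omega

omit [Finite Q] in
/-- A subgroup of the form `comap` of the centre of a quotient, as a membership statement. -/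
theorem mem_comap_center_iff {Z : Subgroup Q} [Z.Normal] {x : Q} :
    x ∈ (Subgroup.center (Q ⧸ Z)).comap (QuotientGroup.mk' Z) ↔ ∀ g : Q, ⁅g, x⁆ ∈ Z := by
  rw [Subgroup.mem_comap, Subgroup.mem_center_iff]
  constructor
  · intro h g
    rw [← QuotientGroup.eq_one_iff]
    show QuotientGroup.mk' Z ⁅g, x⁆ = 1
    rw [map_commutatorElement, commutatorElement_eq_one_iff_mul_comm]
    exact h _
  · intro h g
    obtain ⟨g, rfl⟩ := QuotientGroup.mk'_surjective Z g
    rw [← commutatorElement_eq_one_iff_mul_comm, ← map_commutatorElement]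
    exact (QuotientGroup.eq_one_iff _).mpr (h g)

omit [Finite Q] in
/-- The product of two characteristic subgroups is characteristic. -/
theorem characteristic_sup {A B : Subgroup Q} (hA : A.Characteristic) (hB : B.Characteristic) :
    (A ⊔ B).Characteristic := by
  refine Subgroup.characteristic_iff_map_eq.mpr fun φ => ?_
  rw [Subgroup.map_sup, Subgroup.characteristic_iff_map_eq.mp hA φ,
    Subgroup.characteristic_iff_map_eq.mp hB φ]

omit [Finite Q] in
/-- The intersection of two characteristic subgroups is characteristic. -/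
theorem characteristic_inf {A B : Subgroup Q} (hA : A.Characteristic) (hB : B.Characteristic) :
    (A ⊓ B).Characteristic := by
  refine Subgroup.characteristic_iff_comap_eq.mpr fun φ => ?_
  rw [Subgroup.comap_inf, Subgroup.characteristic_iff_comap_eq.mp hA φ,
    Subgroup.characteristic_iff_comap_eq.mp hB φ]

/-- In a symplectic type 2-group of exponent dividing four all commutators lie in the subgroup of
order two generated by the central involution `z`. -/
theorem commutator_eq (hQ : Cfsg.IsOfSymplecticType Q) (h4 : ∀ a : Q, a ^ 4 = 1) {z : Q}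
    (hzc : z ∈ Subgroup.center Q) (hz1 : z ≠ 1) (hz2 : z * z = 1) :
    ∀ a b : Q, ⁅a, b⁆ = 1 ∨ ⁅a, b⁆ = z := by
  classical
  obtain ⟨hQp, hsym⟩ := hQ
  have hq4 : ∀ a : Q, (a * a) * (a * a) = 1 := fun a => by
    rw [← h4 a, pow_succ, pow_succ, sq, mul_assoc]; group
  set Z := Subgroup.center Q with hZ
  have hZcyc : IsCyclic Z := hsym Z inferInstance inferInstance
  have hZinv : ∀ c ∈ Z, c * c = 1 → c = 1 ∨ c = z := fun c hc hc2 => by
    by_cases h : c = 1
    · exact Or.inl h
    · exact Or.inr (involution_unique hZcyc hc hzc hc2 hz2 h hz1)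
  -- the identity for fourth powers
  have hsq1 : ∀ a b c : Q, b * a = c * a * b → Commute c a → Commute c b → c * c = 1 := by
    intro a b c h hca hcb
    have h1 := CfsgLib.Classification.CyclicNormal.mul_pow_of_comm h hca hcb 4
    rw [h4, h4, h4, mul_one, mul_one, show (4 : ℕ).choose 2 = 4 + 2 from rfl, pow_add, h4, one_mul,
      sq] at h1
    exact h1.symm
  -- all commutators are central
  have hcent : ∀ a b : Q, ⁅a, b⁆ ∈ Z := by
    by_contra hcon
    push Not at hcon
    set D := ⁅(⊤ : Subgroup Q), (⊤ : Subgroup Q)⁆ with hD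
    have hDZ : ¬ D ≤ Z := by
      obtain ⟨a, b, hab⟩ := hcon
      exact fun h => hab (h (Subgroup.commutator_mem_commutator trivial trivial))
    obtain ⟨x, hxD, hxZ, hxc⟩ := exists_central_mod hQp D Z hDZ
    have hZ2c : ((Subgroup.center (Q ⧸ Z)).comap (QuotientGroup.mk' Z)).Characteristic :=
      Subgroup.Characteristic.comap_quotient_mk inferInstance
    set Z2 := (Subgroup.center (Q ⧸ Z)).comap (QuotientGroup.mk' Z) with hZ2
    set W := Z2 ⊓ (D ⊔ Z) with hW
    have hWchar : W.Characteristic := characteristic_inf hZ2c (characteristic_sup inferInstance inferInstance)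
    have hcommW : ∀ y ∈ Z2, ∀ u ∈ D ⊔ Z, Commute u y := by
      intro y hy
      have hle : D ⊔ Z ≤ Subgroup.centralizer ({y} : Set Q) := by
        refine sup_le (fun u hu => Subgroup.mem_centralizer_singleton_iff.mpr ?_)
          (fun u hu => Subgroup.mem_centralizer_singleton_iff.mpr (Subgroup.mem_center_iff.mp hu y).symm)
        exact commute_commutator (C := ⊤) (W := Z) (fun c _ => mem_comap_center_iff.mp hy c)
          (fun c _ v hv => Subgroup.mem_center_iff.mp hv c) le_top u hu
      exact fun u hu => Subgroup.mem_centralizer_singleton_iff.mp (hle hu)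
    have hWab : IsMulCommutative W := ⟨⟨fun a b => Subtype.ext (hcommW b b.2.1 a a.2.2)⟩⟩
    have hWcyc : IsCyclic W := hsym W hWchar hWab
    have hxW : x ∈ W := ⟨mem_comap_center_iff.mpr hxc, Subgroup.mem_sup_left hxD⟩
    have hzW : z ∈ W := ⟨mem_comap_center_iff.mpr fun g => by
      rw [commutatorElement_eq_one_iff_mul_comm.mpr (Subgroup.mem_center_iff.mp hzc g)]
      exact one_mem _, Subgroup.mem_sup_right hzc⟩
    have hx1 : x ≠ 1 := fun h => hxZ (h ▸ one_mem _)
    have hxx : x * x = z := by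
      by_cases h : x * x = 1
      · exact absurd (involution_unique hWcyc hxW hzW h hz2 hx1 hz1 ▸ hzc) hxZ
      · exact involution_unique hWcyc (mul_mem hxW hxW) hzW (hq4 x) hz2 h hz1
    have hord : orderOf x = 4 := by
      refine orderOf_eq_prime_pow (p := 2) (n := 1) ?_ (h4 x)
      rw [pow_one, sq, hxx]; exact hz1
    have hWeq : W = Subgroup.zpowers x := by
      symm
      refine Subgroup.eq_of_le_of_card_ge (Subgroup.zpowers_le.mpr hxW) ?_
      obtain ⟨w, hw⟩ := hWcyc.exists_generator
      rw [Nat.card_zpowers, hord, ← orderOf_eq_card_of_forall_mem_zpowers hw]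
      exact orderOf_le_of_pow_eq_one (by norm_num) (Subtype.ext (h4 w))
    have hWel : ∀ u ∈ W, u * u = 1 → u = 1 ∨ u = z := fun u hu hu2 => by
      by_cases h : u = 1
      · exact Or.inl h
      · exact Or.inr (involution_unique hWcyc hu hzW hu2 hz2 h hz1)
    have hZ2 : ∀ u ∈ Z, u = 1 ∨ u = z := by
      intro u hu
      refine hZinv u hu ?_
      by_contra huu
      have huz : u * u = z := (hZinv _ (mul_mem hu hu) (hq4 u)).resolve_left huu
      have huW : u ∈ W := ⟨mem_comap_center_iff.mpr fun g => by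
        rw [commutatorElement_eq_one_iff_mul_comm.mpr (Subgroup.mem_center_iff.mp hu g)]
        exact one_mem _, Subgroup.mem_sup_right hu⟩
      have hprod : (u * x) * (u * x) = 1 := by
        rw [mul_assoc, ← mul_assoc x, Subgroup.mem_center_iff.mp hu x, mul_assoc u, hxx,
          ← mul_assoc, huz, hz2]
      rcases hWel _ (mul_mem huW hxW) hprod with h | h
      · exact hxZ (by rw [eq_inv_of_mul_eq_one_right h]; exact inv_mem hu)
      · exact hxZ (by rw [eq_inv_mul_of_mul_eq h]; exact mul_mem (inv_mem hu) hzc)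
    -- the centralizer of `W`
    set C := Subgroup.centralizer (W : Set Q) with hC
    have hCchar : C.Characteristic := inferInstance
    have hCW : ∀ c ∈ C, ∀ u ∈ W, Commute c u := fun c hc u hu => (hc u hu).symm
    have hWC : W ≤ C := fun u hu v hv => hcommW u hu.1 v hv.2
    have hKW : ∀ a ∈ C, ∀ b ∈ C, ⁅a, b⁆ ∈ W := by
      by_contra hcon'
      push Not at hcon'
      obtain ⟨a, ha, b, hb, hab⟩ := hcon'
      have hKn : ¬ ⁅C, C⁆ ≤ W := fun h => hab (h (Subgroup.commutator_mem_commutator ha hb))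
      obtain ⟨y, hyK, hyW, hyc⟩ := exists_central_mod hQp ⁅C, C⁆ W hKn
      have hW2c : ((Subgroup.center (Q ⧸ W)).comap (QuotientGroup.mk' W)).Characteristic :=
        Subgroup.Characteristic.comap_quotient_mk inferInstance
      set W2 := (Subgroup.center (Q ⧸ W)).comap (QuotientGroup.mk' W) ⊓ (⁅C, C⁆ ⊔ W) with hW2
      have hle : ⁅C, C⁆ ⊔ W ≤ C := sup_le (Subgroup.commutator_le_self C) hWC
      have hW2ab : IsMulCommutative W2 := by
        refine ⟨⟨fun p q => Subtype.ext ?_⟩⟩
        have hsup : ⁅C, C⁆ ⊔ W ≤ Subgroup.centralizer ({(q : Q)} : Set Q) := by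
          refine sup_le (fun u hu => Subgroup.mem_centralizer_singleton_iff.mpr ?_)
            (fun u hu => Subgroup.mem_centralizer_singleton_iff.mpr (hCW q (hle q.2.2) u hu).symm)
          exact commute_commutator (fun c _ => mem_comap_center_iff.mp q.2.1 c) hCW hWC u hu
        exact Subgroup.mem_centralizer_singleton_iff.mp (hsup p.2.2)
      have hcyc2 : IsCyclic W2 :=
        hsym W2 (characteristic_inf hW2c (characteristic_sup inferInstance hWchar)) hW2ab
      have hxW2 : x ∈ W2 := ⟨mem_comap_center_iff.mpr fun g =>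
        hWchar |> fun _ => by
          have hn : W.Normal := inferInstance
          rw [commutatorElement_def]
          exact mul_mem (hn.conj_mem x hxW g) (inv_mem hxW), Subgroup.mem_sup_right hxW⟩
      have hyW2 : y ∈ W2 := ⟨mem_comap_center_iff.mpr hyc, Subgroup.mem_sup_left hyK⟩
      apply hyW
      obtain ⟨w, hw⟩ := hcyc2.exists_generator
      have : W2 = W := by
        rw [hWeq]
        symm
        refine Subgroup.eq_of_le_of_card_ge (Subgroup.zpowers_le.mpr hxW2) ?_
        rw [Nat.card_zpowers, hord, ← orderOf_eq_card_of_forall_mem_zpowers hw]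
        exact orderOf_le_of_pow_eq_one (by norm_num) (Subtype.ext (h4 w))
      exact this ▸ hyW2
    have hCcomm : ∀ a ∈ C, ∀ b ∈ C, ⁅a, b⁆ = 1 ∨ ⁅a, b⁆ = z := fun a ha b hb => by
      refine hWel _ (hKW a ha b hb) (hsq1 b a _ ?_ ((hCW b hb _ (hKW a ha b hb)).symm) ((hCW a ha _ (hKW a ha b hb)).symm))
      rw [commutatorElement_def]; group
    have hCsq : ∀ a ∈ C, a * a = 1 ∨ a * a = z := by
      intro a ha
      set Y := C ⊓ Subgroup.centralizer (C : Set Q) with hY
      have hYc : IsCyclic Y := hsym Y (characteristic_inf hCchar inferInstance)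
        ⟨⟨fun p q => Subtype.ext (q.2.2 p p.2.1)⟩⟩
      have haa : a * a ∈ Y := by
        refine ⟨mul_mem ha ha, fun b hb => ?_⟩
        have hab : a * b = ⁅a, b⁆ * b * a := by rw [commutatorElement_def]; group
        have hc2 : ⁅a, b⁆ * ⁅a, b⁆ = 1 := by rcases hCcomm a ha b hb with h | h <;> simp [h, hz2]
        have hca := (hCW a ha _ (hKW a ha b hb)).eq
        symm
        calc a * a * b = a * (a * b) := mul_assoc _ _ _
          _ = a * ⁅a, b⁆ * b * a := by rw [hab]; group
          _ = ⁅a, b⁆ * (a * b) * a := by rw [hca]; group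
          _ = (⁅a, b⁆ * ⁅a, b⁆) * (b * (a * a)) := by rw [hab]; group
          _ = b * (a * a) := by rw [hc2, one_mul]
      have hzY : z ∈ Y := ⟨fun u _ => Subgroup.mem_center_iff.mp hzc u, fun u _ => Subgroup.mem_center_iff.mp hzc u⟩
      by_cases h : a * a = 1
      · exact Or.inl h
      · exact Or.inr (involution_unique hYc haa hzY (hq4 a) hz2 h hz1)
    -- an element `q` outside `C`
    have hxcomm : ∀ g : Q, g * x * g⁻¹ = x ∨ g * x * g⁻¹ = x * z := fun g => by
      have h := hxc g
      rw [commutatorElement_def] at h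
      rcases hZ2 _ h with h | h
      · exact Or.inl (mul_inv_eq_one.mp h)
      · exact Or.inr (by rw [mul_inv_eq_iff_eq_mul.mp h, Subgroup.mem_center_iff.mp hzc x])
    have hmemC : ∀ g : Q, g * x * g⁻¹ = x → g ∈ C := fun g hg u hu => by
      rw [SetLike.mem_coe, hWeq, Subgroup.mem_zpowers_iff] at hu
      obtain ⟨j, rfl⟩ := hu
      have hgx : Commute g x := mul_inv_eq_iff_eq_mul.mp hg
      exact (hgx.zpow_right j).eq.symm
    obtain ⟨q, hq⟩ : ∃ q : Q, q * x * q⁻¹ = x * z := by
      by_contra h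
      push Not at h
      apply hxZ
      rw [hZ, Subgroup.mem_center_iff]
      exact fun g => mul_inv_eq_iff_eq_mul.mp ((hxcomm g).resolve_right (h g))
    have hcases : ∀ g : Q, g ∈ C ∨ ∃ c ∈ C, g = q * c := by
      intro g
      rcases hxcomm g with h | h
      · exact Or.inl (hmemC g h)
      · refine Or.inr ⟨q⁻¹ * g, hmemC _ ?_, by group⟩
        calc (q⁻¹ * g) * x * (q⁻¹ * g)⁻¹ = q⁻¹ * (g * x * g⁻¹) * q := by group
          _ = q⁻¹ * (q * x * q⁻¹) * q := by rw [h, hq]
          _ = x := by group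
    have hCn : C.Normal := inferInstance
    -- commutators are `⁅q, c⁆` up to `z`
    let J : Q → Prop := fun y => ∃ c ∈ C, ∃ e, (e = 1 ∨ e = z) ∧ y = ⁅q, c⁆ * e
    have hzg : ∀ g : Q, g * z = z * g := fun g => Subgroup.mem_center_iff.mp hzc g
    have he_comm : ∀ e, (e = 1 ∨ e = z) → ∀ g : Q, g * e = e * g := fun e he g => by
      rcases he with rfl | rfl
      · simp
      · exact hzg g
    have hemul : ∀ e e', (e = 1 ∨ e = z) → (e' = 1 ∨ e' = z) → (e * e' = 1 ∨ e * e' = z) := by
      rintro e e' (rfl | rfl) (rfl | rfl) <;> simp [hz2]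
    have hqC : ∀ c ∈ C, ⁅q, c⁆ ∈ C := fun c hc => by
      rw [commutatorElement_def]; exact mul_mem (hCn.conj_mem c hc q) (inv_mem hc)
    have hJmul : ∀ y y', J y → J y' → J (y * y') := by
      rintro _ _ ⟨c, hc, e, he, rfl⟩ ⟨d, hd, e', he', rfl⟩
      have hk := hCcomm c hc _ (hqC d hd)
      refine ⟨c * d, mul_mem hc hd, ⁅c, ⁅q, d⁆⁆⁻¹ * (e * e'), hemul _ _ ?_ (hemul _ _ he he'), ?_⟩
      · rcases hk with h | h
        · exact Or.inl (by rw [h, inv_one])
        · exact Or.inr (by rw [h, inv_eq_of_mul_eq_one_left hz2])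
      · have h1 : ⁅q, c * d⁆ = ⁅q, c⁆ * (⁅c, ⁅q, d⁆⁆ * ⁅q, d⁆) := by
          simp only [commutatorElement_def]; group
        rw [h1]
        have hkc := he_comm _ hk ⁅q, d⁆
        calc ⁅q, c⁆ * e * (⁅q, d⁆ * e') = ⁅q, c⁆ * (e * ⁅q, d⁆) * e' := by group
          _ = ⁅q, c⁆ * ⁅q, d⁆ * (e * e') := by rw [← he_comm e he]; group
          _ = _ := by rw [← hkc]; group
    have hJone : J 1 := ⟨1, one_mem _, 1, Or.inl rfl, by simp⟩
    have hJinv : ∀ y, J y → J y⁻¹ := by
      intro y hy
      have h : ∀ m : ℕ, J (y ^ m) := fun m => by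
        induction m with
        | zero => simpa using hJone
        | succ m ih => rw [pow_succ]; exact hJmul _ _ ih hy
      have h3 := h 3
      rwa [show y ^ 3 = y⁻¹ from eq_inv_of_mul_eq_one_left (by rw [← pow_succ, h4])] at h3
    have hJz : ∀ y, (y = 1 ∨ y = z) → J y := fun y hy => ⟨1, one_mem _, y, hy, by simp⟩
    have hJc : ∀ c ∈ C, J ⁅q, c⁆ := fun c hc => ⟨c, hc, 1, Or.inl rfl, (mul_one _).symm⟩
    have hJq : ∀ y, J y → J (q * y * q⁻¹) := by
      rintro _ ⟨c, hc, e, he, rfl⟩
      refine ⟨q * c * q⁻¹, hCn.conj_mem c hc q, e, he, ?_⟩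
      calc q * (⁅q, c⁆ * e) * q⁻¹ = q * ⁅q, c⁆ * (e * q⁻¹) := by group
        _ = _ := by rw [← he_comm e he]; simp only [commutatorElement_def]; group
    have hJcq : ∀ c ∈ C, J ⁅c, q⁆ := fun c hc => by
      rw [← commutatorElement_inv]; exact hJinv _ (hJc c hc)
    have hJall : ∀ g h : Q, J ⁅g, h⁆ := by
      have hqcd : ∀ c ∈ C, ∀ d ∈ C, J ⁅q * c, d⁆ := fun c hc d hd => by
        rw [show ⁅q * c, d⁆ = q * ⁅c, d⁆ * q⁻¹ * ⁅q, d⁆ by simp only [commutatorElement_def]; group]
        exact hJmul _ _ (hJq _ (hJz _ (hCcomm c hc d hd))) (hJc d hd)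
      intro g h
      rcases hcases g with hg | ⟨c, hc, rfl⟩ <;> rcases hcases h with hh | ⟨d, hd, rfl⟩
      · exact hJz _ (hCcomm g hg h hh)
      · rw [← commutatorElement_inv]; exact hJinv _ (hqcd d hd g hg)
      · exact hqcd c hc h hh
      · rw [show ⁅q * c, q * d⁆ = ⁅q * c, q⁆ * (q * ⁅q * c, d⁆ * q⁻¹) by
          simp only [commutatorElement_def]; group,
          show ⁅q * c, q⁆ = q * ⁅c, q⁆ * q⁻¹ by simp only [commutatorElement_def]; group]
        exact hJmul _ _ (hJq _ (hJcq c hc)) (hJq _ (hqcd c hc d hd))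
    let S : Subgroup Q :=
      { carrier := {y | J y}, one_mem' := hJone, mul_mem' := fun {a b} => hJmul a b,
        inv_mem' := fun {a} => hJinv a }
    have hDS : D ≤ S := by
      rw [hD, Subgroup.commutator_le]; exact fun g _ h _ => hJall g h
    obtain ⟨c, hc, e, he, hxe⟩ := hDS hxD
    have hq' : q * c * q⁻¹ = x * e * c := by
      rw [hxe, mul_assoc ⁅q, c⁆, show e * e = 1 from by rcases he with rfl | rfl <;> simp [hz2],
        mul_one, commutatorElement_def]
      group
    have hcc : q * (c * c) * q⁻¹ = c * c := by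
      rcases hCsq c hc with h | h <;> rw [h]
      · group
      · rw [hzg, mul_inv_cancel_right]
    have hxc' : c * x = x * c := (hc x hxW).symm
    have h2 : (q * c * q⁻¹) * (q * c * q⁻¹) = z * (c * c) := by
      rw [hq']
      have hec := he_comm e he
      calc x * e * c * (x * e * c) = x * e * (c * x) * e * c := by group
        _ = x * e * x * (c * e) * c := by rw [hxc']; group
        _ = x * e * (x * e) * (c * c) := by rw [hec c]; group
        _ = (x * x) * (e * e) * (c * c) := by
            rw [show x * e * (x * e) = x * (e * x) * e by group, ← hec x]; group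
        _ = z * (c * c) := by
            rw [hxx, show e * e = 1 from by rcases he with rfl | rfl <;> simp [hz2], mul_one]
    rw [conj_mul, hcc] at h2
    exact hz1 (mul_eq_right.mp h2.symm)
  intro a b
  refine hZinv _ (hcent a b) (hsq1 b a _ ?_ ?_ ?_)
  · rw [commutatorElement_def]; group
  · exact (Subgroup.mem_center_iff.mp (hcent a b) b).symm
  · exact (Subgroup.mem_center_iff.mp (hcent a b) a).symm

end CfsgLib.Classification.SymplecticFour
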